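import Cfsg.Agent.Lib.Fi23Pres.DataADefs
import Cfsg.Agent.Lib.Fi23Pres.DataAFactsLLL
import Cfsg.Agent.Lib.Fi23Pres.DataAFactsLLR
import Cfsg.Agent.Lib.Fi23Pres.DataAFactsLRL
import Cfsg.Agent.Lib.Fi23Pres.DataAFactsLRR
import Cfsg.Agent.Lib.Fi23Pres.DataAFactsRLL
import Cfsg.Agent.Lib.Fi23Pres.DataAFactsRLR
import Cfsg.Agent.Lib.Fi23Pres.DataAFactsRRL
import Cfsg.Agent.Lib.Fi23Pres.DataAFactsRRR
import Cfsg.Agent.Lib.Fi23Pres.DataARefsLL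
import Cfsg.Agent.Lib.Fi23Pres.DataARefsLR
import Cfsg.Agent.Lib.Fi23Pres.DataARefsRL
import Cfsg.Agent.Lib.Fi23Pres.DataARefsRR
import Cfsg.Agent.Lib.Fi23Pres.DataATabL
import Cfsg.Agent.Lib.Fi23Pres.DataATabR
import Cfsg.Agent.Lib.Fi23Pres.DataANd
import Cfsg.Agent.Lib.Fi23Pres.DataAEdgeL
import Cfsg.Agent.Lib.Fi23Pres.DataAEdgeR
import Cfsg.Agent.Lib.Fi23Pres.DataAImg

/-!
Coset enumeration data: 31671 cosets, 41535 nodes, 208752 facts.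
-/

set_option autoImplicit false
set_option linter.style.longLine false

namespace CfsgLib.Fi23Pres
open CfsgLib.CosetEnum

/-- the certificate -/
def certA : Cert where
  K := 10
  invs := [0, 1, 2, 3, 4, 5, 6, 7, 8, 9]
  rels := [[0, 0],
    [0, 1, 0, 1, 0, 1],
    [0, 2, 0, 2],
    [0, 3, 0, 3],
    [0, 4, 0, 4],
    [0, 5, 0, 5],
    [0, 6, 0, 6],
    [0, 7, 0, 7],
    [0, 8, 0, 8],
    [0, 9, 0, 9],
    [1, 1],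
    [1, 2, 1, 2, 1, 2],
    [1, 3, 1, 3],
    [1, 4, 1, 4],
    [1, 5, 1, 5],
    [1, 6, 1, 6],
    [1, 7, 1, 7],
    [1, 8, 1, 8],
    [1, 9, 1, 9],
    [2, 2],
    [2, 3, 2, 3, 2, 3],
    [2, 4, 2, 4],
    [2, 5, 2, 5],
    [2, 6, 2, 6],
    [2, 7, 2, 7],
    [2, 8, 2, 8],
    [2, 9, 2, 9],
    [3, 3],
    [3, 4, 3, 4, 3, 4],
    [3, 5, 3, 5],
    [3, 6, 3, 6],
    [3, 7, 3, 7, 3, 7],
    [3, 8, 3, 8],
    [3, 9, 3, 9],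
    [4, 4],
    [4, 5, 4, 5, 4, 5],
    [4, 6, 4, 6],
    [4, 7, 4, 7],
    [4, 8, 4, 8],
    [4, 9, 4, 9],
    [5, 5],
    [5, 6, 5, 6, 5, 6],
    [5, 7, 5, 7],
    [5, 8, 5, 8],
    [5, 9, 5, 9],
    [6, 6],
    [6, 7, 6, 7],
    [6, 8, 6, 8],
    [6, 9, 6, 9, 6, 9],
    [7, 7],
    [7, 8, 7, 8, 7, 8],
    [7, 9, 7, 9],
    [8, 8],
    [8, 9, 8, 9],
    [9, 9],
    [3, 2, 1, 3, 4, 5, 3, 7, 8, 3, 2, 1, 3, 4, 5, 3, 7, 8, 3, 2, 1, 3, 4, 5, 3, 7, 8, 3, 2, 1, 3, 4, 5, 3, 7, 8, 3, 2, 1, 3, 4, 5, 3, 7, 8, 3, 2, 1, 3, 4, 5, 3, 7, 8, 3, 2, 1, 3, 4, 5, 3, 7, 8, 3, 2, 1, 3, 4, 5, 3, 7, 8, 3, 2, 1, 3, 4, 5, 3, 7, 8, 3, 2, 1, 3, 4, 5, 3, 7, 8],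
    [0, 1, 2, 3, 4, 5, 7, 0, 1, 2, 3, 4, 5, 7, 0, 1, 2, 3, 4, 5, 7, 0, 1, 2, 3, 4, 5, 7, 0, 1, 2, 3, 4, 5, 7, 0, 1, 2, 3, 4, 5, 7, 0, 1, 2, 3, 4, 5, 7, 0, 1, 2, 3, 4, 5, 7, 0, 1, 2, 3, 4, 5, 7]]
  subs := [[0],
    [1],
    [2],
    [3],
    [4],
    [5],
    [6],
    [7],
    [8]]
  N := 31671
  M := 41535
  F := 208752
  defs := certADefs
  facts := (.node (.node (.node certAFactsLLL certAFactsLLR) (.node certAFactsLRL certAFactsLRR)) (.node (.node certAFactsRLL certAFactsRLR) (.node certAFactsRRL certAFactsRRR)))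
  refs := (.node (.node certARefsLL certARefsLR) (.node certARefsRL certARefsRR))
  tab := (.node certATabL certATabR)
  nd := certANd
  edge := (.node certAEdgeL certAEdgeR)
  img := certAImg

end CfsgLib.Fi23Pres
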