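import Cfsg.Agent.Lib.CosetEnum.Chunks
import Cfsg.Agent.Lib.Fi23Pres.DataA

/-!
Kernel check of a block of a table.
-/

set_option autoImplicit false
set_option Elab.async false

namespace CfsgLib.Fi23Pres
open CfsgLib.CosetEnum

theorem certA_ndimg10 : allUp certA.ndImgOK' 10 (10 * 2 ^ 10) = true := by decide +kernel

end CfsgLib.Fi23Pres
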