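import Cfsg.Agent.Lib.CosetEnum.Blocks
import Cfsg.Agent.Lib.Fi23Pres.CheckAStep0
import Cfsg.Agent.Lib.Fi23Pres.CheckAStep1
import Cfsg.Agent.Lib.Fi23Pres.CheckAStep2
import Cfsg.Agent.Lib.Fi23Pres.CheckAStep3
import Cfsg.Agent.Lib.Fi23Pres.CheckAStep4
import Cfsg.Agent.Lib.Fi23Pres.CheckAStep5
import Cfsg.Agent.Lib.Fi23Pres.CheckAStep6
import Cfsg.Agent.Lib.Fi23Pres.CheckAStep7
import Cfsg.Agent.Lib.Fi23Pres.CheckAStep8
import Cfsg.Agent.Lib.Fi23Pres.CheckAStep9
import Cfsg.Agent.Lib.Fi23Pres.CheckAStep10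
import Cfsg.Agent.Lib.Fi23Pres.CheckAStep11
import Cfsg.Agent.Lib.Fi23Pres.CheckAStep12
import Cfsg.Agent.Lib.Fi23Pres.CheckAStep13
import Cfsg.Agent.Lib.Fi23Pres.CheckAStep14
import Cfsg.Agent.Lib.Fi23Pres.CheckAStep15
import Cfsg.Agent.Lib.Fi23Pres.CheckAStep16
import Cfsg.Agent.Lib.Fi23Pres.CheckAStep17
import Cfsg.Agent.Lib.Fi23Pres.CheckAStep18
import Cfsg.Agent.Lib.Fi23Pres.CheckAStep19
import Cfsg.Agent.Lib.Fi23Pres.CheckAStep20
import Cfsg.Agent.Lib.Fi23Pres.CheckAStep21
import Cfsg.Agent.Lib.Fi23Pres.CheckAStep22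
import Cfsg.Agent.Lib.Fi23Pres.CheckAStep23
import Cfsg.Agent.Lib.Fi23Pres.CheckAStep24
import Cfsg.Agent.Lib.Fi23Pres.CheckAStep25
import Cfsg.Agent.Lib.Fi23Pres.CheckAStep26
import Cfsg.Agent.Lib.Fi23Pres.CheckAStep27
import Cfsg.Agent.Lib.Fi23Pres.CheckAStep28
import Cfsg.Agent.Lib.Fi23Pres.CheckAStep29
import Cfsg.Agent.Lib.Fi23Pres.CheckAStep30
import Cfsg.Agent.Lib.Fi23Pres.CheckAStep31
import Cfsg.Agent.Lib.Fi23Pres.CheckAStep32
import Cfsg.Agent.Lib.Fi23Pres.CheckAStep33
import Cfsg.Agent.Lib.Fi23Pres.CheckAStep34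
import Cfsg.Agent.Lib.Fi23Pres.CheckAStep35
import Cfsg.Agent.Lib.Fi23Pres.CheckAStep36
import Cfsg.Agent.Lib.Fi23Pres.CheckAStep37
import Cfsg.Agent.Lib.Fi23Pres.CheckAStep38
import Cfsg.Agent.Lib.Fi23Pres.CheckAStep39
import Cfsg.Agent.Lib.Fi23Pres.CheckAStep40
import Cfsg.Agent.Lib.Fi23Pres.CheckAStep41
import Cfsg.Agent.Lib.Fi23Pres.CheckAStep42
import Cfsg.Agent.Lib.Fi23Pres.CheckAStep43
import Cfsg.Agent.Lib.Fi23Pres.CheckAStep44
import Cfsg.Agent.Lib.Fi23Pres.CheckAStep45
import Cfsg.Agent.Lib.Fi23Pres.CheckAStep46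
import Cfsg.Agent.Lib.Fi23Pres.CheckAStep47
import Cfsg.Agent.Lib.Fi23Pres.CheckAStep48
import Cfsg.Agent.Lib.Fi23Pres.CheckAStep49
import Cfsg.Agent.Lib.Fi23Pres.CheckAStep50
import Cfsg.Agent.Lib.Fi23Pres.CheckAEntry0
import Cfsg.Agent.Lib.Fi23Pres.CheckAEntry1
import Cfsg.Agent.Lib.Fi23Pres.CheckAEntry2
import Cfsg.Agent.Lib.Fi23Pres.CheckAEntry3
import Cfsg.Agent.Lib.Fi23Pres.CheckAEntry4
import Cfsg.Agent.Lib.Fi23Pres.CheckAEntry5
import Cfsg.Agent.Lib.Fi23Pres.CheckAEntry6
import Cfsg.Agent.Lib.Fi23Pres.CheckAEntry7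
import Cfsg.Agent.Lib.Fi23Pres.CheckAAct0
import Cfsg.Agent.Lib.Fi23Pres.CheckAAct4
import Cfsg.Agent.Lib.Fi23Pres.CheckAAct8
import Cfsg.Agent.Lib.Fi23Pres.CheckAAct12
import Cfsg.Agent.Lib.Fi23Pres.CheckAAct16
import Cfsg.Agent.Lib.Fi23Pres.CheckAAct20
import Cfsg.Agent.Lib.Fi23Pres.CheckAAct24
import Cfsg.Agent.Lib.Fi23Pres.CheckAAct28
import Cfsg.Agent.Lib.Fi23Pres.CheckANdImg0
import Cfsg.Agent.Lib.Fi23Pres.CheckANdImg1
import Cfsg.Agent.Lib.Fi23Pres.CheckANdImg2
import Cfsg.Agent.Lib.Fi23Pres.CheckANdImg3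
import Cfsg.Agent.Lib.Fi23Pres.CheckANdImg4
import Cfsg.Agent.Lib.Fi23Pres.CheckANdImg5
import Cfsg.Agent.Lib.Fi23Pres.CheckANdImg6
import Cfsg.Agent.Lib.Fi23Pres.CheckANdImg7
import Cfsg.Agent.Lib.Fi23Pres.CheckANdImg8
import Cfsg.Agent.Lib.Fi23Pres.CheckANdImg9
import Cfsg.Agent.Lib.Fi23Pres.CheckANdImg10
import Cfsg.Agent.Lib.Fi23Pres.CheckANdImg11
import Cfsg.Agent.Lib.Fi23Pres.CheckANdImg12
import Cfsg.Agent.Lib.Fi23Pres.CheckANdImg13
import Cfsg.Agent.Lib.Fi23Pres.CheckANdImg14
import Cfsg.Agent.Lib.Fi23Pres.CheckANdImg15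
import Cfsg.Agent.Lib.Fi23Pres.CheckANdImg16
import Cfsg.Agent.Lib.Fi23Pres.CheckANdImg17
import Cfsg.Agent.Lib.Fi23Pres.CheckANdImg18
import Cfsg.Agent.Lib.Fi23Pres.CheckANdImg19
import Cfsg.Agent.Lib.Fi23Pres.CheckANdImg20
import Cfsg.Agent.Lib.Fi23Pres.CheckANdImg21
import Cfsg.Agent.Lib.Fi23Pres.CheckANdImg22
import Cfsg.Agent.Lib.Fi23Pres.CheckANdImg23
import Cfsg.Agent.Lib.Fi23Pres.CheckANdImg24
import Cfsg.Agent.Lib.Fi23Pres.CheckANdImg25
import Cfsg.Agent.Lib.Fi23Pres.CheckANdImg26
import Cfsg.Agent.Lib.Fi23Pres.CheckANdImg27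
import Cfsg.Agent.Lib.Fi23Pres.CheckANdImg28
import Cfsg.Agent.Lib.Fi23Pres.CheckANdImg29
import Cfsg.Agent.Lib.Fi23Pres.CheckANdImg30
import Cfsg.Agent.Lib.Fi23Pres.CheckAImg0
import Cfsg.Agent.Lib.Fi23Pres.CheckAImg1
import Cfsg.Agent.Lib.Fi23Pres.CheckAImg2
import Cfsg.Agent.Lib.Fi23Pres.CheckAImg3
import Cfsg.Agent.Lib.Fi23Pres.CheckAImg4
import Cfsg.Agent.Lib.Fi23Pres.CheckAImg5

/-!
Kernel checks of coset enumeration data.
-/

set_option autoImplicit false

namespace CfsgLib.Fi23Pres
open CfsgLib.CosetEnum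

theorem certA_complete : certA.Complete :=
  Cert.complete_of_blocks₂ _ (k := 12) (n := 51) (k₂ := 12) (n₂ := 8)
    (by decide +kernel)
    (fun j hj => by
      match j, hj with
      | 0, _ => exact certA_step0
      | 1, _ => exact certA_step1
      | 2, _ => exact certA_step2
      | 3, _ => exact certA_step3
      | 4, _ => exact certA_step4
      | 5, _ => exact certA_step5
      | 6, _ => exact certA_step6
      | 7, _ => exact certA_step7
      | 8, _ => exact certA_step8
      | 9, _ => exact certA_step9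
      | 10, _ => exact certA_step10
      | 11, _ => exact certA_step11
      | 12, _ => exact certA_step12
      | 13, _ => exact certA_step13
      | 14, _ => exact certA_step14
      | 15, _ => exact certA_step15
      | 16, _ => exact certA_step16
      | 17, _ => exact certA_step17
      | 18, _ => exact certA_step18
      | 19, _ => exact certA_step19
      | 20, _ => exact certA_step20
      | 21, _ => exact certA_step21
      | 22, _ => exact certA_step22
      | 23, _ => exact certA_step23
      | 24, _ => exact certA_step24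
      | 25, _ => exact certA_step25
      | 26, _ => exact certA_step26
      | 27, _ => exact certA_step27
      | 28, _ => exact certA_step28
      | 29, _ => exact certA_step29
      | 30, _ => exact certA_step30
      | 31, _ => exact certA_step31
      | 32, _ => exact certA_step32
      | 33, _ => exact certA_step33
      | 34, _ => exact certA_step34
      | 35, _ => exact certA_step35
      | 36, _ => exact certA_step36
      | 37, _ => exact certA_step37
      | 38, _ => exact certA_step38
      | 39, _ => exact certA_step39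
      | 40, _ => exact certA_step40
      | 41, _ => exact certA_step41
      | 42, _ => exact certA_step42
      | 43, _ => exact certA_step43
      | 44, _ => exact certA_step44
      | 45, _ => exact certA_step45
      | 46, _ => exact certA_step46
      | 47, _ => exact certA_step47
      | 48, _ => exact certA_step48
      | 49, _ => exact certA_step49
      | 50, _ => exact certA_step50
      | r + 51, h => omega)
    (by decide +kernel)
    (fun j hj => by
      match j, hj with
      | 0, _ => exact certA_entry0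
      | 1, _ => exact certA_entry1
      | 2, _ => exact certA_entry2
      | 3, _ => exact certA_entry3
      | 4, _ => exact certA_entry4
      | 5, _ => exact certA_entry5
      | 6, _ => exact certA_entry6
      | 7, _ => exact certA_entry7
      | r + 8, h => omega)
    (by decide +kernel)

theorem certA_action : certA.IsAction :=
  Cert.isAction_of_blocks _ (k₁ := 13) (n₁ := 6) (k₂ := 10) (n₂ := 31)
    (by decide +kernel) (by decide +kernel)
    (fun j hj => by
      match j, hj with
      | 0, _ => exact certA_act0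
      | 1, _ => exact certA_act1
      | 2, _ => exact certA_act2
      | 3, _ => exact certA_act3
      | 4, _ => exact certA_act4
      | 5, _ => exact certA_act5
      | 6, _ => exact certA_act6
      | 7, _ => exact certA_act7
      | 8, _ => exact certA_act8
      | 9, _ => exact certA_act9
      | 10, _ => exact certA_act10
      | 11, _ => exact certA_act11
      | 12, _ => exact certA_act12
      | 13, _ => exact certA_act13
      | 14, _ => exact certA_act14
      | 15, _ => exact certA_act15
      | 16, _ => exact certA_act16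
      | 17, _ => exact certA_act17
      | 18, _ => exact certA_act18
      | 19, _ => exact certA_act19
      | 20, _ => exact certA_act20
      | 21, _ => exact certA_act21
      | 22, _ => exact certA_act22
      | 23, _ => exact certA_act23
      | 24, _ => exact certA_act24
      | 25, _ => exact certA_act25
      | 26, _ => exact certA_act26
      | 27, _ => exact certA_act27
      | 28, _ => exact certA_act28
      | 29, _ => exact certA_act29
      | 30, _ => exact certA_act30
      | r + 31, h => omega)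
    (fun j hj => by
      match j, hj with
      | 0, _ => exact certA_ndimg0
      | 1, _ => exact certA_ndimg1
      | 2, _ => exact certA_ndimg2
      | 3, _ => exact certA_ndimg3
      | 4, _ => exact certA_ndimg4
      | 5, _ => exact certA_ndimg5
      | 6, _ => exact certA_ndimg6
      | 7, _ => exact certA_ndimg7
      | 8, _ => exact certA_ndimg8
      | 9, _ => exact certA_ndimg9
      | 10, _ => exact certA_ndimg10
      | 11, _ => exact certA_ndimg11
      | 12, _ => exact certA_ndimg12
      | 13, _ => exact certA_ndimg13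
      | 14, _ => exact certA_ndimg14
      | 15, _ => exact certA_ndimg15
      | 16, _ => exact certA_ndimg16
      | 17, _ => exact certA_ndimg17
      | 18, _ => exact certA_ndimg18
      | 19, _ => exact certA_ndimg19
      | 20, _ => exact certA_ndimg20
      | 21, _ => exact certA_ndimg21
      | 22, _ => exact certA_ndimg22
      | 23, _ => exact certA_ndimg23
      | 24, _ => exact certA_ndimg24
      | 25, _ => exact certA_ndimg25
      | 26, _ => exact certA_ndimg26
      | 27, _ => exact certA_ndimg27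
      | 28, _ => exact certA_ndimg28
      | 29, _ => exact certA_ndimg29
      | 30, _ => exact certA_ndimg30
      | r + 31, h => omega)
    (by decide +kernel)
    (fun j hj => by
      match j, hj with
      | 0, _ => exact certA_img0
      | 1, _ => exact certA_img1
      | 2, _ => exact certA_img2
      | 3, _ => exact certA_img3
      | 4, _ => exact certA_img4
      | 5, _ => exact certA_img5
      | r + 6, h => omega)
    (by decide +kernel)

end CfsgLib.Fi23Pres
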