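import Cfsg.Agent.Lib.Fi23Pres.OutBase

/-!
Cheap checks, on the base points, for the automorphisms of the presented Fischer group Fi23.
-/

set_option autoImplicit false

namespace CfsgLib.Fi23Pres

open CfsgLib.CosetEnum

/-- the word of the conjugate of the central element attached to a coset -/
noncomputable def zAt (x : ℕ) : List ℕ :=
  certA.revInv (certA.repWord x) ++ (zWord ++ certA.repWord x)

/-- the word of a member of the generating family -/
noncomputable def famWord (k : ℕ) : List ℕ := pick (Nat.beq k 0) zWord [Nat.sub k 1]

theorem words_lt : ([zWord, vWord, bWord, cWord].all fun w => w.all fun g => Nat.blt g 10) = true := by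
  decide +kernel

theorem z_comm : (certA.subs.all fun w =>
    sameBases certA levels (zWord ++ w) (w ++ zWord)) = true := by decide +kernel

theorem zv_comm : sameBases certA levels (zWord ++ vWord) (vWord ++ zWord) = true := by decide +kernel
theorem bv_comm : sameBases certA levels (bWord ++ vWord) (vWord ++ bWord) = true := by decide +kernel
theorem cv_comm : sameBases certA levels (cWord ++ vWord) (vWord ++ cWord) = true := by decide +kernel
theorem z_square : sameBases certA levels (zWord ++ zWord) [] = true := by decide +kernel
theorem b_square : sameBases certA levels (bWord ++ bWord) [] = true := by decide +kernel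
theorem c_square : sameBases certA levels (cWord ++ cWord) [] = true := by decide +kernel
theorem v_power : (levels.all fun l => wordFix certA (powWord vWord 13) l.base) = true := by
  decide +kernel
theorem v_moves : sameBases certA levels vWord [] = false := by decide +kernel
theorem z_moves : sameBases certA levels zWord [] = false := by decide +kernel

theorem three_images : (Nat.beq (certA.run 0 (certA.revInv zWord)) 0 &&
    Nat.beq (certA.run 27467 (certA.revInv zWord)) 28462 &&
    Nat.beq (certA.run 0 (certA.revInv bWord)) 28462 &&
    Nat.beq (certA.run 0 (certA.revInv cWord)) 27467) = true := by decide +kernel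

theorem comm_rep : sameBases certA levels (zWord ++ zAt 53) (zAt 53 ++ zWord) = true := by
  decide +kernel
theorem rep_ne : sameBases certA levels (zAt 53) zWord = false := by decide +kernel
theorem noncomm_rep : sameBases certA levels (zWord ++ zAt 1) (zAt 1 ++ zWord) = false := by
  decide +kernel

theorem std_words : ((List.range 11).all fun k => ltB (stdTuple.getD k 0) 31671 &&
    sameBases certA levels (zAt (stdTuple.getD k 0)) (famWord k)) = true := by decide +kernel

end CfsgLib.Fi23Pres
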