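import Cfsg.Prelude.Def_SporadicB
import Cfsg.Agent.Lib.Fi23Pres.OutFacts
import Cfsg.Agent.Lib.Fi22Pres.Main

/-!
The subgroup of index 31671 of the presented group Fi23 is a non-split double cover of Fi22.
-/

set_option autoImplicit false

namespace CfsgLib.Fi23Pres

open CfsgLib.CosetEnum Cfsg.Spor

/-- the two kinds of words checked in the cover: letters below nine, value trivial or central -/
theorem cover_words : ((Fi22Pres.extraW.all fun w => (w.all fun g => Nat.blt g 9) &&
    (sameBases certA levels w [] || sameBases certA levels w zWord)) &&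
    sameBases certA levels (powWord [0, 1, 2, 3, 4, 5, 7] 9) [] &&
    sameBases certA levels (powWord [1, 2, 3, 4, 5, 6, 7] 9) zWord &&
    Nat.beq (certA.run 0 (certA.revInv zWord)) 0) = true := by decide +kernel

theorem size_eq : chainSize certA levels = Nat.card Fi23 := chain_size.trans card_faithful.1.symm

theorem words_eq {u w : List ℕ} (hu : ∀ g ∈ u, g < certA.K) (hw : ∀ g ∈ w, g < certA.K)
    (h : sameBases certA levels u w = true) : prodW gen u = prodW gen w :=
  setupA.eq_of_bases chain_ok size_eq hu hw h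

theorem nine_lt {w : List ℕ} (h : (w.all fun g => Nat.blt g 9) = true) : ∀ g ∈ w, g < certA.K := by
  intro g hg
  simp only [List.all_eq_true, Nat.blt_eq] at h
  have hk : certA.K = 10 := rfl
  have := h g hg
  omega

theorem zWord_lt : ∀ g ∈ zWord, g < certA.K := by
  have h : (zWord.all fun g => Nat.blt g certA.K) = true := by decide +kernel
  simpa only [List.all_eq_true, Nat.blt_eq] using h

/-- the central element of the cover -/
noncomputable def coverZ : Fi23 := prodW gen zWord

theorem coverZ_sq : coverZ * coverZ = 1 := by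
  rw [coverZ, ← prodW_append, words_eq (fun g hg => (List.mem_append.mp hg).elim (zWord_lt g) (zWord_lt g))
    (by simp) z_square, prodW_nil]

theorem coverZ_ne : coverZ ≠ 1 := by
  intro e
  have h := z_moves
  simp only [sameBases, List.all_eq_false, Bool.not_eq_true] at h
  obtain ⟨l, hl, hne⟩ := h
  have hb : (levels.all fun l => Nat.blt l.base certA.N) = true := by decide +kernel
  simp only [List.all_eq_true, Nat.blt_eq] at hb
  exact setupA.ne_of_run zWord_lt (by simp) (hb l hl) hne (by rw [prodW_nil]; exact e)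

theorem coverZ_comm : ∀ x ∈ subA, x * coverZ = coverZ * x := by
  intro x hx
  induction hx using Subgroup.closure_induction with
  | mem y hy =>
    obtain ⟨w, hw, rfl⟩ := hy
    have h := words_eq
      (fun g hg => (List.mem_append.mp hg).elim (zWord_lt g) (setupA.sub_lt hw g))
      (fun g hg => (List.mem_append.mp hg).elim (setupA.sub_lt hw g) (zWord_lt g))
      (List.all_eq_true.mp z_comm w hw)
    rw [prodW_append, prodW_append] at h
    exact h.symm
  | one => simp
  | mul x y _ _ hx hy => rw [mul_assoc, hy, ← mul_assoc, hx, mul_assoc]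
  | inv x _ hx => exact Commute.inv_left hx

theorem coverZ_mem : coverZ ∈ subA := by
  rw [setupA.mem_iff]
  have h := cover_words
  simp only [Bool.and_eq_true] at h
  exact Fin.ext ((setupA.rho_prodW zWord_lt _).trans (Nat.eq_of_beq_eq_true h.2))

theorem gen_mem {g : ℕ} (hg : g < 9) : gen g ∈ subA := by
  refine Subgroup.subset_closure ⟨[g], ?_, by simp⟩
  have hs : certA.subs = [[0], [1], [2], [3], [4], [5], [6], [7], [8]] := rfl
  rw [hs]
  interval_cases g <;> simp

/-- the central element inside the subgroup -/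
noncomputable def zSub : subA := ⟨coverZ, coverZ_mem⟩

theorem zSub_val : (zSub : Fi23) = coverZ := rfl

theorem zSub_ne : zSub ≠ 1 := fun e => coverZ_ne (by rw [← zSub_val, e, OneMemClass.coe_one])

theorem zSub_center : zSub ∈ Subgroup.center subA :=
  Subgroup.mem_center_iff.mpr fun x => Subtype.ext (coverZ_comm x x.2)

/-- the kernel of the cover -/
noncomputable def zKer : Subgroup subA := Subgroup.zpowers zSub

instance zKer_normal : zKer.Normal :=
  ⟨fun n hn g => by
    obtain ⟨k, rfl⟩ := Subgroup.mem_zpowers_iff.mp hn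
    rw [Subgroup.mem_center_iff.mp (zpow_mem zSub_center k) g, mul_inv_cancel_right]
    exact zpow_mem (Subgroup.mem_zpowers _) k⟩

theorem zSub_order : orderOf zSub = 2 := by
  haveI : Fact (Nat.Prime 2) := ⟨Nat.prime_two⟩
  exact orderOf_eq_prime (Subtype.ext (by
    rw [pow_two, Subgroup.coe_mul, zSub_val, coverZ_sq, OneMemClass.coe_one]))
    zSub_ne

theorem card_subA : Nat.card subA = 129123503308800 := by
  have h := Subgroup.card_mul_index subA
  rw [setupA.index_eq, card_faithful.1, show certA.N = 31671 from rfl] at h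
  exact Nat.eq_of_mul_eq_mul_right (by norm_num : 0 < 31671) (h.trans (by norm_num))

theorem card_quot : Nat.card (subA ⧸ zKer) = 64561751654400 := by
  have h := Subgroup.card_eq_card_quotient_mul_card_subgroup zKer
  rw [card_subA, show Nat.card zKer = 2 by rw [zKer, Nat.card_zpowers, zSub_order]] at h
  omega

/-- the generators of the quotient -/
noncomputable def coverGen (g : ℕ) : subA ⧸ zKer :=
  if h : g < 9 then QuotientGroup.mk ⟨gen g, gen_mem h⟩ else 1

/-- the letters of Fi22 among those of Fi23 -/
def upGen : Fi22.Gen → Fi23.Gen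
  | .a => .a | .b => .b | .c => .c | .d => .d | .e => .e
  | .f => .f | .g => .g | .h => .h | .i => .i

theorem label_eq : ∀ x y : Fi22.Gen,
    coxLabel Fi22.edges x y = coxLabel Fi23.edges (upGen x) (upGen y) := by
  intro x y; cases x <;> cases y <;> rfl

/-- the image of a letter -/
noncomputable def coverOf (x : Fi22.Gen) : subA ⧸ zKer := coverGen (Fi22Pres.letters.idxOf x)

theorem coverOf_spec : ∀ x, ∃ m : (PresentedGroup.of (upGen x) : Fi23) ∈ subA,
    coverOf x = QuotientGroup.mk ⟨_, m⟩ := by
  intro x
  have key : ∀ k (hk : k < 9), Fi22Pres.letters.idxOf x = k → gen k = PresentedGroup.of (upGen x) →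
      ∃ m : (PresentedGroup.of (upGen x) : Fi23) ∈ subA, coverOf x = QuotientGroup.mk ⟨_, m⟩ := by
    intro k hk e1 e2
    refine ⟨e2 ▸ gen_mem hk, ?_⟩
    unfold coverOf coverGen
    rw [e1, dif_pos hk]
    exact congrArg _ (Subtype.ext e2)
  cases x
  · exact key 0 (by norm_num) rfl rfl
  · exact key 1 (by norm_num) rfl rfl
  · exact key 2 (by norm_num) rfl rfl
  · exact key 3 (by norm_num) rfl rfl
  · exact key 4 (by norm_num) rfl rfl
  · exact key 5 (by norm_num) rfl rfl
  · exact key 6 (by norm_num) rfl rfl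
  · exact key 7 (by norm_num) rfl rfl
  · exact key 8 (by norm_num) rfl rfl

theorem coverOf_pair (x y : Fi22.Gen) : (coverOf x * coverOf y) ^ coxLabel Fi22.edges x y = 1 := by
  obtain ⟨mx, ex⟩ := coverOf_spec x
  obtain ⟨my, ey⟩ := coverOf_spec y
  rw [ex, ey, ← QuotientGroup.mk_mul, ← QuotientGroup.mk_pow, label_eq]
  refine (congrArg _ (Subtype.ext ?_)).trans (QuotientGroup.mk_one zKer)
  simpa using of_pair (extra := Fi23.extra) (nodes (upGen x)) (nodes (upGen y))

theorem cover_rel : ∀ r ∈ coxRelators Fi22.edges ∪ {r | r ∈ Fi22.extra},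
    FreeGroup.lift coverOf r = 1 := by
  rintro r (⟨x, -, y, -, rfl⟩ | hr)
  · simpa only [map_pow, map_mul, FreeGroup.lift_apply_of] using coverOf_pair x y
  · obtain ⟨k, hk, rfl⟩ := List.getElem_of_mem (Set.mem_ofPred_eq ▸ hr : r ∈ Fi22.extra)
    have hlen := Fi22Pres.extraWords.length_eq
    have h2 := (List.forall₂_iff_get.mp Fi22Pres.extraWords).2 k hk (by omega)
    simp only [List.get_eq_getElem] at h2
    have hsq : ∀ x, coverOf x * coverOf x = 1 := fun x => by
      have := coverOf_pair x x
      rwa [coxLabel_self, pow_one] at this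
    rw [h2 _ coverOf hsq]
    set w := Fi22Pres.extraW[k]'(by omega)
    have hw := cover_words
    simp only [Bool.and_eq_true] at hw
    have hw' := List.all_eq_true.mp hw.1.1.1 w (List.getElem_mem _)
    simp only [Bool.and_eq_true, Bool.or_eq_true] at hw'
    have h9 : ∀ g ∈ w, g < 9 := by simpa only [List.all_eq_true, Nat.blt_eq] using hw'.1
    let genS : ℕ → subA := fun g => if h : g < 9 then ⟨gen g, gen_mem h⟩ else 1
    have e1 : prodW (genOf Fi22Pres.letters coverOf) w =
        (QuotientGroup.mk' zKer) (prodW genS w) := by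
      rw [map_prodW]
      refine prodW_congr fun g hg => ?_
      have hg9 := h9 g hg
      have hl : g < Fi22Pres.letters.length := hg9
      rw [genOf_of_lt hl, coverOf, List.Nodup.idxOf_getElem (by decide) g hl, coverGen,
        dif_pos hg9]
      simp [genS, dif_pos hg9]
    have e2 : ((prodW genS w : subA) : Fi23) = prodW gen w := by
      rw [show ((prodW genS w : subA) : Fi23) = subA.subtype (prodW genS w) from rfl, map_prodW]
      refine prodW_congr fun g hg => ?_
      simp [genS, dif_pos (h9 g hg)]
    rw [e1, QuotientGroup.mk'_apply, QuotientGroup.eq_one_iff]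
    rcases hw'.2 with h | h
    · rw [show prodW genS w = 1 from Subtype.ext (by
        rw [e2, words_eq (nine_lt hw'.1) (by simp) h, prodW_nil]; rfl)]
      exact one_mem _
    · rw [show prodW genS w = zSub from Subtype.ext (by
        rw [e2, words_eq (nine_lt hw'.1) zWord_lt h]; rfl)]
      exact Subgroup.mem_zpowers _

/-- the map from Fi22 onto the quotient -/
noncomputable def coverMap : Fi22 →* subA ⧸ zKer := PresentedGroup.toGroup cover_rel

theorem coverMap_surjective : Function.Surjective coverMap := by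
  intro q
  obtain ⟨⟨x, hx⟩, rfl⟩ := QuotientGroup.mk_surjective q
  suffices h : ∀ y ∈ subA, ∀ hy : y ∈ subA, (QuotientGroup.mk ⟨y, hy⟩ : subA ⧸ zKer) ∈ coverMap.range
    from h x hx hx
  intro y hy
  induction hy using Subgroup.closure_induction with
  | mem y hy =>
    intro hy'
    obtain ⟨w, hw, rfl⟩ := hy
    have hs : certA.subs = [[0], [1], [2], [3], [4], [5], [6], [7], [8]] := rfl
    rw [hs] at hw
    obtain ⟨g, hg, rfl⟩ : ∃ g < 9, w = [g] := by
      simp only [List.mem_cons, List.not_mem_nil, or_false] at hw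
      rcases hw with rfl | rfl | rfl | rfl | rfl | rfl | rfl | rfl | rfl <;> exact ⟨_, by norm_num, rfl⟩
    have hl : g < Fi22Pres.letters.length := hg
    refine ⟨PresentedGroup.of (Fi22Pres.letters[g]), ?_⟩
    rw [coverMap, PresentedGroup.toGroup.of, coverOf, List.Nodup.idxOf_getElem (by decide) g hl,
      coverGen, dif_pos hg]
    exact congrArg _ (Subtype.ext (by simp))
  | one => intro hy'; exact ⟨1, map_one _⟩
  | mul a b ha hb iha ihb =>
    intro hy'
    have := mul_mem (iha ha) (ihb hb)
    rwa [← QuotientGroup.mk_mul] at this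
  | inv a ha iha =>
    intro hy'
    have := inv_mem (iha ha)
    rwa [← QuotientGroup.mk_inv] at this

/-- the quotient is Fi22 -/
noncomputable def coverEquiv : Fi22 ≃* subA ⧸ zKer :=
  MulEquiv.ofBijective coverMap <| by
    classical
    haveI : Finite Fi22 := inferInstance
    refine (Nat.bijective_iff_surjective_and_card _).mpr ⟨coverMap_surjective, ?_⟩
    rw [card_quot, Fi22Pres.card_faithful.1]

theorem center_eq : Subgroup.center subA = zKer := by
  refine le_antisymm (fun x hx => ?_) ((Subgroup.zpowers_le).mpr zSub_center)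
  haveI : IsSimpleGroup Fi22 := Fi22Pres.isFi22.1
  have hc : coverEquiv.symm (QuotientGroup.mk x) ∈ Subgroup.center Fi22 := by
    refine Subgroup.mem_center_iff.mpr fun y => coverEquiv.injective ?_
    rw [map_mul, map_mul, MulEquiv.apply_symm_apply]
    obtain ⟨y', hy'⟩ := QuotientGroup.mk_surjective (coverEquiv y)
    rw [← hy', ← QuotientGroup.mk_mul, ← QuotientGroup.mk_mul, Subgroup.mem_center_iff.mp hx y']
  rcases Subgroup.Normal.eq_bot_or_eq_top (H := Subgroup.center Fi22) inferInstance with h | h
  · rw [h, Subgroup.mem_bot, EmbeddingLike.map_eq_one_iff, QuotientGroup.eq_one_iff] at hc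
    exact hc
  · exfalso
    haveI : Finite Fi22 := inferInstance
    have hcomm : ∀ a b : Fi22, a * b = b * a := fun a b =>
      (Subgroup.mem_center_iff.mp (h ▸ Subgroup.mem_top b : b ∈ Subgroup.center Fi22) a)
    letI : CommGroup Fi22 := { (inferInstance : Group Fi22) with mul_comm := hcomm }
    have hp : (Nat.card Fi22).Prime := IsSimpleGroup.prime_card
    rw [Fi22Pres.card_faithful.1] at hp
    norm_num at hp

theorem no_complement (L : Subgroup subA) : ¬ (Subgroup.center subA).IsComplement' L := by
  intro hL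
  rw [center_eq] at hL
  have hidx : L.index = 2 := by
    rw [hL.index_eq_card, zKer, Nat.card_zpowers, zSub_order]
  haveI : L.Normal := Subgroup.normal_of_index_eq_two hidx
  have hzL : zSub ∉ L := by
    intro hz
    have h1 : zSub ∈ zKer ⊓ L := ⟨Subgroup.mem_zpowers _, hz⟩
    rw [disjoint_iff.mp hL.disjoint, Subgroup.mem_bot] at h1
    exact zSub_ne h1
  let χ : subA →* subA ⧸ L := QuotientGroup.mk' L
  have hcard : Nat.card (subA ⧸ L) = 2 := hidx
  have hsq : ∀ q : subA ⧸ L, q * q = 1 := fun q => by
    have := pow_card_eq_one' (x := q)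
    rwa [hcard, pow_two] at this
  have hcomm : ∀ p q : subA ⧸ L, p * q = q * p := fun p q => by
    have := hsq (p * q)
    calc p * q = (p * q)⁻¹ := (inv_eq_of_mul_eq_one_right this).symm
      _ = q⁻¹ * p⁻¹ := mul_inv_rev p q
      _ = q * p := by rw [inv_eq_of_mul_eq_one_right (hsq q), inv_eq_of_mul_eq_one_right (hsq p)]
  let e : ℕ → subA ⧸ L := fun g => if h : g < 9 then χ ⟨gen g, gen_mem h⟩ else 1
  have hjoin : ∀ x y : Fi22.Gen, coxLabel Fi22.edges x y = 3 →
      e (Fi22Pres.letters.idxOf x) = e (Fi22Pres.letters.idxOf y) := by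
    intro x y hxy
    obtain ⟨mx, -⟩ := coverOf_spec x
    obtain ⟨my, -⟩ := coverOf_spec y
    have hval : ∀ z : Fi22.Gen, ∀ m : (PresentedGroup.of (upGen z) : Fi23) ∈ subA,
        e (Fi22Pres.letters.idxOf z) = χ ⟨_, m⟩ := by
      intro z m
      cases z <;> exact (dif_pos (by decide)).trans (congrArg χ (Subtype.ext rfl))
    have h3 : (χ ⟨_, mx⟩ * χ ⟨_, my⟩) ^ 3 = 1 := by
      rw [← map_mul, ← map_pow]
      refine (congrArg χ (Subtype.ext ?_)).trans (map_one χ)
      have := of_pair (extra := Fi23.extra) (nodes (upGen x)) (nodes (upGen y))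
      rw [← label_eq, hxy] at this
      simpa using this
    rw [pow_succ, pow_two, hsq, one_mul] at h3
    rw [hval x mx, hval y my, mul_eq_one_iff_eq_inv.mp h3, inv_eq_of_mul_eq_one_right (hsq _)]
  have h01 : e 0 = e 1 := hjoin .a .b rfl
  have h12 : e 1 = e 2 := hjoin .b .c rfl
  have h23 : e 2 = e 3 := hjoin .c .d rfl
  have h34 : e 3 = e 4 := hjoin .d .e rfl
  have h45 : e 4 = e 5 := hjoin .e .f rfl
  have h56 : e 5 = e 6 := hjoin .f .g rfl
  have h37 : e 3 = e 7 := hjoin .d .h rfl
  let genS : ℕ → subA := fun g => if h : g < 9 then ⟨gen g, gen_mem h⟩ else 1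
  have hval : ∀ w : List ℕ, (∀ g ∈ w, g < 9) →
      χ (prodW genS w) = prodW e w ∧ ((prodW genS w : subA) : Fi23) = prodW gen w := by
    intro w hw
    refine ⟨?_, ?_⟩
    · rw [map_prodW]
      exact prodW_congr fun g hg => by simp [e, genS, dif_pos (hw g hg)]
    · rw [show ((prodW genS w : subA) : Fi23) = subA.subtype (prodW genS w) from rfl, map_prodW]
      exact prodW_congr fun g hg => by simp [genS, dif_pos (hw g hg)]
  have hodd : ∀ q : subA ⧸ L, (q * q * q * q * q * q * q) ^ 9 = q := fun q => by
    rw [show q * q * q * q * q * q * q = q by simp [hsq], show (9 : ℕ) = 2 * 4 + 1 from rfl,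
      pow_succ, pow_mul, pow_two, hsq, one_pow, one_mul]
  have hw := cover_words
  simp only [Bool.and_eq_true] at hw
  obtain ⟨⟨⟨-, hA⟩, hB⟩, -⟩ := hw
  have lA : ∀ g ∈ powWord [0, 1, 2, 3, 4, 5, 7] 9, g < 9 := by decide +kernel
  have lB : ∀ g ∈ powWord [1, 2, 3, 4, 5, 6, 7] 9, g < 9 := by decide +kernel
  have hk : certA.K = 10 := rfl
  have eA := (hval _ lA).1
  rw [show prodW genS (powWord [0, 1, 2, 3, 4, 5, 7] 9) = 1 from Subtype.ext (by
    rw [(hval _ lA).2, words_eq (fun g hg => by have := lA g hg; omega) (by simp) hA, prodW_nil]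
    rfl), map_one, prodW_powWord] at eA
  have eB := (hval _ lB).1
  rw [show prodW genS (powWord [1, 2, 3, 4, 5, 6, 7] 9) = zSub from Subtype.ext (by
    rw [(hval _ lB).2, words_eq (fun g hg => by have := lB g hg; omega) zWord_lt hB]; rfl),
    prodW_powWord] at eB
  simp only [prodW_cons, prodW_nil, mul_one, ← h56, ← h37, ← h45, ← h34, ← h23, ← h12, ← h01,
    ← mul_assoc, hodd] at eA eB
  rw [← eA] at eB
  exact hzL ((QuotientGroup.eq_one_iff zSub).mp eB)

/-- the subgroup is a non-split double cover of Fi22 -/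
theorem subA_cover : Cfsg.IsNonsplitDoubleCover subA Fi22 :=
  ⟨by rw [center_eq, zKer, Nat.card_zpowers, zSub_order],
    ⟨(QuotientGroup.quotientMulEquivOfEq center_eq).trans coverEquiv.symm⟩, no_complement⟩

end CfsgLib.Fi23Pres
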