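import Cfsg.Agent.Lib.Fi23Pres.Out
import Cfsg.Agent.Lib.Fi23Pres.Cover

/-!
The 31671 transpositions of the presented group Fi23.
-/

set_option autoImplicit false

namespace CfsgLib.Fi23Pres

open CfsgLib.CosetEnum Cfsg.Spor

theorem cubed_rep : sameBases certA levels (powWord (zWord ++ zAt 1) 3) [] = true := by decide +kernel

/-- the class of the central element -/
noncomputable def transClass : Set Fi23 := conjugatesOf central

theorem mem_transClass {d : Fi23} :
    d ∈ transClass ↔ ∃ x : Fin certA.N, conjAt certA gen central x = d := by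
  change IsConj central d ↔ _
  rw [isConj_iff]
  constructor
  · rintro ⟨c, rfl⟩
    exact ⟨_, (setupA.conj_eq_conjAt comm_central c).symm⟩
  · rintro ⟨x, rfl⟩
    exact ⟨(coreRep certA gen x)⁻¹, by simp [conjAt, mul_assoc]⟩

theorem transClass_card : Nat.card transClass = 31671 := by
  have e : transClass = Set.range fun x : Fin certA.N => conjAt certA gen central x :=
    Set.ext fun d => mem_transClass
  rw [e, Nat.card_range_of_injective fun x y h => graph.injective h, Nat.card_fin]
  rfl

theorem central_pair (z : Fin certA.N) :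
    (central * conjAt certA gen central z) ^ 2 = 1 ∨ (central * conjAt certA gen central z) ^ 3 = 1 := by
  have hfix : ∀ h ∈ subA, h * central * h⁻¹ = central := fun h hh => by
    rw [comm_central h hh, mul_inv_cancel_right]
  have key : ∀ {r m : ℕ} (o : Suborbit certA r m), m.testBit z = true →
      ∃ h : Fi23, central * conjAt certA gen central z =
        h * (central * conjAt certA gen central r) * h⁻¹ := by
    intro r m o hz
    obtain ⟨h, hh, e⟩ := (setupA.orbit_mem_iff o z).mpr hz
    refine ⟨h, ?_⟩
    rw [← e, ← setupA.conjAt_smul comm_central h ⟨r, o.mem.1⟩]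
    conv_lhs => arg 1; rw [← hfix h hh]
    group
  by_cases hm : commMask.testBit z = true
  · left
    have hc := (graph.mask z).mp hm
    have hsq : conjAt certA gen central z * conjAt certA gen central z = 1 := by
      rw [conjAt, show ∀ c : Fi23, c⁻¹ * central * c * (c⁻¹ * central * c) = c⁻¹ * (central * central) * c
        from fun c => by group, central_facts.1, mul_one, inv_mul_cancel]
    rw [pow_two, hc.symm.mul_mul_mul_comm, central_facts.1, hsq, one_mul]
  · right
    have hm2 : subMask1.testBit z = true := by
      have h := Nat.eq_of_beq_eq_true (suborbits.cover z z.2)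
      rw [Bool.not_eq_true, commMask, Nat.testBit_or, Bool.or_eq_false_iff] at hm
      have hz : (z : ℕ) ≠ 0 := fun e => by rw [e] at hm; simp at hm
      rw [show [subMask0, subMask1].length + 1 = 3 from rfl, show List.range 3 = [0, 1, 2] from rfl] at h
      simp only [List.countP_cons, List.countP_nil, List.getD_cons_zero, List.getD_cons_succ] at h
      simp [hm.2, hz, Nat.testBit_one_eq_true_iff_self_eq_zero] at h
      exact h
    obtain ⟨h, e⟩ := key subMask1_orbit hm2
    rw [e, conj_pow, mul_inv_eq_one, mul_eq_left]
    rw [show (1 : ℕ) = ((⟨1, by decide +kernel⟩ : Fin certA.N) : ℕ) from rfl, conj_eq, central,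
      ← prodW_append, ← prodW_powWord]
    refine (eq_words ?_ nil_lt cubed_rep).trans (prodW_nil gen)
    intro g hg
    obtain ⟨l, hl, hgl⟩ := List.mem_flatten.mp hg
    obtain rfl := List.eq_of_mem_replicate hl
    exact app_lt z_lt (zAt_lt ⟨1, by decide +kernel⟩) g hgl

theorem transClass_three : Cfsg.IsThreeTranspositionClass transClass := by
  have hcent : ∀ d ∈ transClass, ∃ c : Fi23, c * central * c⁻¹ = d := fun d hd =>
    isConj_iff.mp hd
  refine ⟨⟨fun d hd => ?_, fun d hd e he => ?_⟩, ⟨central, mem_conjugatesOf_self, rfl⟩, ?_⟩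
  · obtain ⟨c, rfl⟩ := hcent d hd
    rw [show c * central * c⁻¹ = MulAut.conj c central from rfl, MulEquiv.orderOf_eq]
    haveI : Fact (Nat.Prime 2) := ⟨Nat.prime_two⟩
    exact orderOf_eq_prime (by rw [pow_two, central_facts.1]) central_facts.2
  · obtain ⟨c, rfl⟩ := hcent d hd
    obtain ⟨x, rfl⟩ := mem_transClass.mp he
    have h := central_pair (rho c⁻¹ x)
    rw [← setupA.conjAt_smul comm_central, inv_inv] at h
    have e : c * central * c⁻¹ * conjAt certA gen central x =
        c * (central * (c⁻¹ * conjAt certA gen central x * c)) * c⁻¹ := by group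
    rw [e, conj_pow, conj_pow]
    rcases h with h | h
    · left; rw [h, mul_one, mul_inv_cancel]
    · right; rw [h, mul_one, mul_inv_cancel]
  · haveI : IsSimpleGroup Fi23 := isFi23.1
    have e : Subgroup.closure transClass = Subgroup.normalClosure {central} := by
      rw [Subgroup.normalClosure, Group.conjugatesOfSet]
      simp [transClass]
    rw [e]
    refine (Subgroup.Normal.eq_bot_or_eq_top (H := Subgroup.normalClosure {central})
      inferInstance).resolve_left fun h => central_facts.2 ?_
    have := Subgroup.subset_normalClosure (Set.mem_singleton central)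
    rw [h] at this
    simpa using this

theorem centralizer_central : Subgroup.centralizer ({central} : Set Fi23) = subA := by
  ext g
  rw [Subgroup.mem_centralizer_singleton_iff]
  refine ⟨fun h => (setupA.mem_iff g).mpr (graph.injective ?_), fun h => comm_central g h⟩
  rw [← setupA.conj_eq_conjAt comm_central, setupA.conjAt_base, h, mul_inv_cancel_right]

theorem centralizer_conj (c : Fi23) :
    Subgroup.centralizer ({c * central * c⁻¹} : Set Fi23) = subA.map (MulAut.conj c).toMonoidHom := by
  ext g
  rw [← centralizer_central, Subgroup.mem_map_equiv, Subgroup.mem_centralizer_singleton_iff,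
    Subgroup.mem_centralizer_singleton_iff, MulAut.conj_symm_apply]
  constructor <;> intro h
  · calc c⁻¹ * g * c * central = c⁻¹ * (g * (c * central * c⁻¹)) * c := by group
      _ = c⁻¹ * (c * central * c⁻¹ * g) * c := by rw [h]
      _ = central * (c⁻¹ * g * c) := by group
  · calc g * (c * central * c⁻¹) = c * (c⁻¹ * g * c * central) * c⁻¹ := by group
      _ = c * (central * (c⁻¹ * g * c)) * c⁻¹ := by rw [h]
      _ = c * central * c⁻¹ * g := by group

/-- a non-split double cover stays one under an isomorphism -/
theorem cover_transport {A B K : Type*} [Group A] [Group B] [Group K] (e : A ≃* B)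
    (h : Cfsg.IsNonsplitDoubleCover A K) : Cfsg.IsNonsplitDoubleCover B K := by
  have hc : (Subgroup.center A).map e.toMonoidHom = Subgroup.center B := by
    ext x
    rw [Subgroup.mem_map_equiv, Subgroup.mem_center_iff, Subgroup.mem_center_iff]
    constructor
    · intro hx y; apply e.symm.injective; rw [map_mul, map_mul]; exact hx _
    · intro hx y; apply e.injective; rw [map_mul, map_mul, MulEquiv.apply_symm_apply]; exact hx _
  obtain ⟨h1, ⟨q⟩, h3⟩ := h
  refine ⟨?_, ⟨(QuotientGroup.congr (Subgroup.center A) (Subgroup.center B) e hc).symm.trans q⟩,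
    fun L hL => h3 (L.map e.symm.toMonoidHom) ?_⟩
  · rw [← hc, ← h1]
    exact (Nat.card_congr ((Subgroup.center A).equivMapOfInjective _ e.injective).toEquiv).symm
  · haveI : Finite (Subgroup.center A) := Nat.finite_of_card_ne_zero (by omega)
    have e1 : (Subgroup.center B).map e.symm.toMonoidHom = Subgroup.center A := by
      rw [← hc, Subgroup.map_map]
      convert Subgroup.map_id _
      ext; simp
    rw [← e1]
    refine Subgroup.isComplement'_def.mpr ?_
    obtain ⟨hi, hs⟩ := Subgroup.isComplement'_def.mp hL
    constructor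
    · rintro ⟨⟨a, x, hx, rfl⟩, ⟨b, y, hy, rfl⟩⟩ ⟨⟨a', x', hx', rfl⟩, ⟨b', y', hy', rfl⟩⟩ hab
      have := @hi (⟨x, hx⟩, ⟨y, hy⟩) (⟨x', hx'⟩, ⟨y', hy'⟩) (e.symm.injective (by simpa using hab))
      simp only [Prod.mk.injEq, Subtype.mk.injEq] at this
      simp [this.1, this.2]
    · intro g
      obtain ⟨⟨⟨x, hx⟩, ⟨y, hy⟩⟩, hxy⟩ := hs (e g)
      refine ⟨(⟨_, x, hx, rfl⟩, ⟨_, y, hy, rfl⟩), ?_⟩
      simp only at hxy ⊢
      simp [← map_mul, hxy]

theorem fi23_realization : ∃ (G : Type) (_ : Group G) (_ : Finite G), Cfsg.IsFi23 G ∧ ∃ D : Set G,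
    Cfsg.IsThreeTranspositionClass D ∧ Nat.card D = 31671 ∧ ∀ d ∈ D, ∃ (K : Type) (_ : Group K),
      Cfsg.IsFi22 K ∧ Cfsg.IsNonsplitDoubleCover (Subgroup.centralizer ({d} : Set G)) K := by
  refine ⟨Fi23, inferInstance, inferInstance, isFi23, transClass, transClass_three, transClass_card,
    fun d hd => ?_⟩
  obtain ⟨c, rfl⟩ := isConj_iff.mp (hd : IsConj central d)
  refine ⟨Fi22, inferInstance, Fi22Pres.isFi22, ?_⟩
  rw [centralizer_conj]
  exact cover_transport (subA.equivMapOfInjective _ (MulAut.conj c).injective) subA_cover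

end CfsgLib.Fi23Pres
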