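import Cfsg.Agent.Lib.CosetEnum.ChainSplit
import Cfsg.Agent.Lib.Fi23Pres.DataChain
import Cfsg.Agent.Lib.Fi23Pres.CheckA

/-!
Kernel check of the orbit chain.
-/

set_option autoImplicit false

namespace CfsgLib.Fi23Pres

open CfsgLib.CosetEnum

theorem level1_ok : levelOK certA levelsLevel1 [levelsLevel2, levelsLevel3, levelsLevel4, levelsLevel5, levelsLevel6, levelsLevel7, levelsLevel8] = true := by decide +kernel

theorem level1_size : popc levelsLevel1.mask certA.N = 28160 := by decide +kernel

end CfsgLib.Fi23Pres
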