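import Cfsg.Agent.Lib.CosetEnum.ChainSplit
import Cfsg.Agent.Lib.Fi23Pres.DataChain
import Cfsg.Agent.Lib.Fi23Pres.CheckA

/-!
Kernel check of the orbit chain.
-/

set_option autoImplicit false

namespace CfsgLib.Fi23Pres

open CfsgLib.CosetEnum

theorem levels2_ok : chainOK certA [levelsLevel2, levelsLevel3, levelsLevel4, levelsLevel5, levelsLevel6, levelsLevel7, levelsLevel8] = true := by decide +kernel

theorem level2_size : popc levelsLevel2.mask certA.N = 3159 := by decide +kernel

theorem level3_size : popc levelsLevel3.mask certA.N = 288 := by decide +kernel

theorem level4_size : popc levelsLevel4.mask certA.N = 35 := by decide +kernel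

theorem level5_size : popc levelsLevel5.mask certA.N = 12 := by decide +kernel

theorem level6_size : popc levelsLevel6.mask certA.N = 3 := by decide +kernel

theorem level7_size : popc levelsLevel7.mask certA.N = 2 := by decide +kernel

theorem level8_size : popc levelsLevel8.mask certA.N = 2 := by decide +kernel

end CfsgLib.Fi23Pres
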