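import Cfsg.Agent.Lib.Fi23Pres.DataQDefs
import Cfsg.Agent.Lib.Fi23Pres.DataQFactsLLL
import Cfsg.Agent.Lib.Fi23Pres.DataQFactsLLR
import Cfsg.Agent.Lib.Fi23Pres.DataQFactsLRL
import Cfsg.Agent.Lib.Fi23Pres.DataQFactsLRR
import Cfsg.Agent.Lib.Fi23Pres.DataQFactsRLL
import Cfsg.Agent.Lib.Fi23Pres.DataQFactsRLR
import Cfsg.Agent.Lib.Fi23Pres.DataQFactsRRL
import Cfsg.Agent.Lib.Fi23Pres.DataQFactsRRR
import Cfsg.Agent.Lib.Fi23Pres.DataQRefsLL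
import Cfsg.Agent.Lib.Fi23Pres.DataQRefsLR
import Cfsg.Agent.Lib.Fi23Pres.DataQRefsRL
import Cfsg.Agent.Lib.Fi23Pres.DataQRefsRR
import Cfsg.Agent.Lib.Fi23Pres.DataQTabL
import Cfsg.Agent.Lib.Fi23Pres.DataQTabR
import Cfsg.Agent.Lib.Fi23Pres.DataQNd
import Cfsg.Agent.Lib.Fi23Pres.DataQEdgeL
import Cfsg.Agent.Lib.Fi23Pres.DataQEdgeR
import Cfsg.Agent.Lib.Fi23Pres.DataQImg

/-!
Coset enumeration data: 14080 cosets, 15802 nodes, 75274 facts.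
-/

set_option autoImplicit false
set_option linter.style.longLine false

namespace CfsgLib.Fi23Pres
open CfsgLib.CosetEnum

/-- the certificate -/
def certQ : Cert where
  K := 9
  invs := [0, 1, 2, 3, 4, 5, 6, 7, 8]
  rels := [[0, 0],
    [0, 1, 0, 1, 0, 1],
    [0, 2, 0, 2],
    [0, 3, 0, 3],
    [0, 4, 0, 4],
    [0, 5, 0, 5],
    [0, 6, 0, 6],
    [0, 7, 0, 7],
    [0, 8, 0, 8],
    [1, 1],
    [1, 2, 1, 2, 1, 2],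
    [1, 3, 1, 3],
    [1, 4, 1, 4],
    [1, 5, 1, 5],
    [1, 6, 1, 6],
    [1, 7, 1, 7],
    [1, 8, 1, 8],
    [2, 2],
    [2, 3, 2, 3, 2, 3],
    [2, 4, 2, 4],
    [2, 5, 2, 5],
    [2, 6, 2, 6],
    [2, 7, 2, 7],
    [2, 8, 2, 8],
    [3, 3],
    [3, 4, 3, 4, 3, 4],
    [3, 5, 3, 5],
    [3, 6, 3, 6],
    [3, 7, 3, 7, 3, 7],
    [3, 8, 3, 8],
    [4, 4],
    [4, 5, 4, 5, 4, 5],
    [4, 6, 4, 6],
    [4, 7, 4, 7],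
    [4, 8, 4, 8],
    [5, 5],
    [5, 6, 5, 6, 5, 6],
    [5, 7, 5, 7],
    [5, 8, 5, 8],
    [6, 6],
    [6, 7, 6, 7],
    [6, 8, 6, 8],
    [7, 7],
    [7, 8, 7, 8, 7, 8],
    [8, 8],
    [3, 2, 1, 3, 4, 5, 3, 7, 8, 3, 2, 1, 3, 4, 5, 3, 7, 8, 3, 2, 1, 3, 4, 5, 3, 7, 8, 3, 2, 1, 3, 4, 5, 3, 7, 8, 3, 2, 1, 3, 4, 5, 3, 7, 8, 3, 2, 1, 3, 4, 5, 3, 7, 8, 3, 2, 1, 3, 4, 5, 3, 7, 8, 3, 2, 1, 3, 4, 5, 3, 7, 8, 3, 2, 1, 3, 4, 5, 3, 7, 8, 3, 2, 1, 3, 4, 5, 3, 7, 8],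
    [0, 1, 2, 3, 4, 5, 7, 0, 1, 2, 3, 4, 5, 7, 0, 1, 2, 3, 4, 5, 7, 0, 1, 2, 3, 4, 5, 7, 0, 1, 2, 3, 4, 5, 7, 0, 1, 2, 3, 4, 5, 7, 0, 1, 2, 3, 4, 5, 7, 0, 1, 2, 3, 4, 5, 7, 0, 1, 2, 3, 4, 5, 7]]
  subs := [[1],
    [2],
    [3],
    [4],
    [5],
    [6],
    [7],
    [8]]
  N := 14080
  M := 15802
  F := 75274
  defs := certQDefs
  facts := (.node (.node (.node certQFactsLLL certQFactsLLR) (.node certQFactsLRL certQFactsLRR)) (.node (.node certQFactsRLL certQFactsRLR) (.node certQFactsRRL certQFactsRRR)))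
  refs := (.node (.node certQRefsLL certQRefsLR) (.node certQRefsRL certQRefsRR))
  tab := (.node certQTabL certQTabR)
  nd := certQNd
  edge := (.node certQEdgeL certQEdgeR)
  img := certQImg

end CfsgLib.Fi23Pres
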