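import Cfsg.Agent.Lib.Fi23Pres.CheckQStep0
import Cfsg.Agent.Lib.Fi23Pres.CheckQStep1
import Cfsg.Agent.Lib.Fi23Pres.CheckQStep2
import Cfsg.Agent.Lib.Fi23Pres.CheckQStep3
import Cfsg.Agent.Lib.Fi23Pres.CheckQStep4
import Cfsg.Agent.Lib.Fi23Pres.CheckQStep5
import Cfsg.Agent.Lib.Fi23Pres.CheckQStep6
import Cfsg.Agent.Lib.Fi23Pres.CheckQStep7
import Cfsg.Agent.Lib.Fi23Pres.CheckQStep8
import Cfsg.Agent.Lib.Fi23Pres.CheckQStep9
import Cfsg.Agent.Lib.CosetEnum.Use
import Cfsg.Agent.Lib.CosetEnum.Blocks
import Cfsg.Agent.Lib.Fi23Pres.DataQ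

/-!
Kernel checks of coset enumeration data.
-/

set_option autoImplicit false
set_option Elab.async false

namespace CfsgLib.Fi23Pres
open CfsgLib.CosetEnum

theorem certQ_entry0 : allUp certQ.entryOK' 12 0 = true := by decide +kernel

theorem certQ_entry1 : allUp certQ.entryOK' 12 4096 = true := by decide +kernel

theorem certQ_entry2 : allUp certQ.entryOK' 12 8192 = true := by decide +kernel

theorem certQ_entry3 : allUp certQ.entryOK' 12 12288 = true := by decide +kernel

theorem certQ_complete : certQ.Complete :=
  Cert.complete_of_blocks₂ _ (k := 13) (n := 10) (k₂ := 12) (n₂ := 4) (by decide +kernel)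
    (fun j hj => by
      match j, hj with
      | 0, _ => exact certQ_step0
      | 1, _ => exact certQ_step1
      | 2, _ => exact certQ_step2
      | 3, _ => exact certQ_step3
      | 4, _ => exact certQ_step4
      | 5, _ => exact certQ_step5
      | 6, _ => exact certQ_step6
      | 7, _ => exact certQ_step7
      | 8, _ => exact certQ_step8
      | 9, _ => exact certQ_step9
      | n + 10, h => omega)
    (by decide +kernel)
    (fun j hj => by
      match j, hj with
      | 0, _ => exact certQ_entry0
      | 1, _ => exact certQ_entry1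
      | 2, _ => exact certQ_entry2
      | 3, _ => exact certQ_entry3
      | n + 4, h => omega)
    (by decide +kernel)

end CfsgLib.Fi23Pres
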