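import Cfsg.Agent.Lib.CosetEnum.Basic

/-!
Coset enumeration data: 3 cosets, 3 nodes, 4 facts.
-/

set_option autoImplicit false
set_option linter.style.longLine false

namespace CfsgLib.Fi23Pres
open CfsgLib.CosetEnum

/-- the certificate -/
def certS2 : Cert where
  K := 2
  invs := [0, 1]
  rels := [[0, 0],
    [0, 1, 0, 1, 0, 1],
    [1, 1]]
  subs := [[0]]
  N := 3
  M := 3
  F := 4
  defs := (.leaf 0x2000000010000000)
  facts := (.leaf 0x2800000000200200c000010400002000000000000000000000000100000010000000000000000000000000840000000000000000000000006000000000000)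
  refs := (.leaf 0x4000002000000000003000005)
  tab := (.leaf 0x20000100000000020000100000)
  nd := (.leaf 0x2000001000000)
  edge := (.leaf 0x7000005000003000004000002000001)
  img := (.leaf 0x20000100000)

end CfsgLib.Fi23Pres
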