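import Cfsg.Agent.Lib.CosetEnum.Basic

/-!
Coset enumeration data: 6 cosets, 6 nodes, 25 facts.
-/

set_option autoImplicit false
set_option linter.style.longLine false

namespace CfsgLib.Fi23Pres
open CfsgLib.CosetEnum

/-- the certificate -/
def certS5 : Cert where
  K := 5
  invs := [0, 1, 2, 3, 4]
  rels := [[0, 0],
    [0, 1, 0, 1, 0, 1],
    [0, 2, 0, 2],
    [0, 3, 0, 3],
    [0, 4, 0, 4],
    [1, 1],
    [1, 2, 1, 2, 1, 2],
    [1, 3, 1, 3],
    [1, 4, 1, 4],
    [2, 2],
    [2, 3, 2, 3, 2, 3],
    [2, 4, 2, 4],
    [3, 3],
    [3, 4, 3, 4, 3, 4],
    [4, 4]]
  subs := [[0],
    [1],
    [2],
    [3]]
  N := 6
  M := 6
  F := 25
  defs := (.leaf 0x8000000610000042000002300000040000000)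
  facts := (.leaf 0x2800000660200200c0000284000050001800000600100202400002900000500018000005a0100201c000028c00005000180000054010020140000288000050000000000540000000000002800000400028000004a020020340000208000040001800000440100204400002100000400018000003e0100203c000020c0000400000000003e0000000000002040000300028000003402002054000018c0000300018000002e0100205c000019000003000180000028010040140000180000030000000000280000000000001880000200028000001e0200206c0000110000020001800000180100403c0000104000020001800000120100401c00001000000200000000001200000000000010c0000100018000000c0100405c0000088000010001800000060100404400000840000100018000000001004024000008000001000000000000000000000000090000000000000000000000001e000000c00000000000000000000000160000008000000000000000000000000e00000040000000000000000000000006000000000000)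
  refs := (.leaf 0x2800002000001a00002100002900002800002400002900002800002200002900002800002600002900002000001800001400001900002100002000001c00002100002000001e00002100001800001000000e00001100001900001800001600001900001800001200001900001000000800000600000900001100001000000c00001100001000000a000011000008000004000009000008000002000009000008000000000009)
  tab := (.leaf 0x50000500005000050000400004000040000400003000050000300003000020000400003000020000100003000020000200000000020000100001000010000100000000000000000000)
  nd := (.leaf 0x5000004000003000002000001000000)
  edge := (.leaf 0x2f00002d00002b00003100002900002500002300002700002100002800001d00001f00001900002000001b00001700001100001800001500001300000900001000000f00000d00000b000008000007000005000003000001)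
  img := (.leaf 0x50000400003000020000100000)

end CfsgLib.Fi23Pres
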