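import Cfsg.Prelude.Def_Spor_Fi23
import Cfsg.Prelude.Def_Sporadic
import Cfsg.Agent.Lib.CosetEnum.BasePow
import Cfsg.Agent.Lib.Fi23Pres.SuborbitA
import Cfsg.Agent.Lib.Fi23Pres.CheckChain0
import Cfsg.Agent.Lib.Fi23Pres.CheckChain1
import Cfsg.Agent.Lib.Fi23Pres.CheckChain2
import Cfsg.Agent.Lib.Fi23Pres.CheckQ
import Cfsg.Agent.Lib.Fi23Pres.CheckB
import Cfsg.Agent.Lib.Fi23Pres.CheckC
import Cfsg.Agent.Lib.Fi23Pres.CheckS1
import Cfsg.Agent.Lib.Fi23Pres.CheckS2
import Cfsg.Agent.Lib.Fi23Pres.CheckS3
import Cfsg.Agent.Lib.Fi23Pres.CheckS4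
import Cfsg.Agent.Lib.Fi23Pres.CheckS5
import Cfsg.Agent.Lib.Fi23Pres.CheckS6
import Cfsg.Agent.Lib.Fi23Pres.CheckX

/-!
The presented Fischer group Fi23: index 31671, order, simplicity.
-/

set_option autoImplicit false

namespace CfsgLib.Fi23Pres

open CfsgLib.CosetEnum Cfsg.Spor

/-- the generators in order -/
def letters : List Fi23.Gen := [.a, .b, .c, .d, .e, .f, .g, .h, .i, .j]

/-- the further relators as words -/
def extraW : List (List ℕ) := [
  powWord [3, 2, 1, 3, 4, 5, 3, 7, 8] 10,
  powWord [0, 1, 2, 3, 4, 5, 7] 9]

theorem extraWords : ExtraWords letters Fi23.extra extraW := by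
  unfold ExtraWords Fi23.extra extraW
  refine .cons ?_ (.cons ?_ .nil)
  all_goals
    intro P _ f _
    rw [map_pow, prodW_powWord]
    simp [prodW, genOf, letters, Fi23.a, Fi23.b, Fi23.c, Fi23.d, Fi23.e, Fi23.f, Fi23.h,
      Fi23.i, mul_assoc]

theorem mem_letters : ∀ x, x ∈ letters := by intro x; cases x <;> decide

theorem nodes : ∀ x, x ∈ coxNodes Fi23.edges := by intro x; cases x <;> decide

/-- the numbered generators -/
def gen : ℕ → Fi23 := presGen letters Fi23.edges Fi23.extra

theorem gen_sq (g : ℕ) : gen g * gen g = 1 := by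
  unfold gen presGen genOf
  split
  · exact of_sq (nodes _)
  · simp

theorem presA : presOK letters Fi23.edges extraW certA = true := by decide +kernel

/-- the subgroup of index 31671 -/
def subA : Subgroup Fi23 := Subgroup.closure {y | ∃ w ∈ certA.subs, prodW gen w = y}

theorem modelA : Model certA subA gen :=
  presModel nodes extraWords presA _ fun w hw => Subgroup.subset_closure ⟨w, hw, rfl⟩

theorem exists_action : ∃ ρ : Fi23 →* Equiv.Perm (Fin certA.N),
    ∀ g < certA.K, ρ (gen g) = letterPerm certA_complete certA_action g :=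
  exists_presAction mem_letters (by decide) extraWords presA certA_complete certA_action

/-- the action on the 31671 cosets -/
noncomputable def rho : Fi23 →* Equiv.Perm (Fin certA.N) := exists_action.choose

theorem setupA : Setup certA subA gen rho where
  complete := certA_complete
  action := certA_action
  model := modelA
  gen_top := presGen_top mem_letters rfl
  rho_gen := exists_action.choose_spec
  H_eq := rfl

theorem blockS1 : blockOK certS1 certA.rels 1 1 = true := by decide +kernel
theorem blockS2 : blockOK certS2 certA.rels 1 2 = true := by decide +kernel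
theorem blockS3 : blockOK certS3 certA.rels 1 3 = true := by decide +kernel
theorem blockS4 : blockOK certS4 certA.rels 1 4 = true := by decide +kernel
theorem blockS5 : blockOK certS5 certA.rels 1 5 = true := by decide +kernel
theorem blockS6 : blockOK certS6 certA.rels 1 6 = true := by decide +kernel
theorem blockC : blockOK certC certA.rels 1 7 = true := by decide +kernel
theorem blockB : blockOK certB certA.rels 1 8 = true := by decide +kernel
theorem blockQ : blockOK certQ certA.rels 0 9 = true := by decide +kernel

theorem subA_eq : subA = genSub gen 9 := subs_closure_genSub (by decide +kernel)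

theorem subA_card : Finite subA ∧ Nat.card subA ≤ 129123503308800 := by
  have hr : ∀ r ∈ certA.rels, prodW gen r = 1 := modelA.rel
  have h1 := block_card_le gen_sq hr certS1_complete blockS1 (subs_closure_bot rfl)
  have h2 := block_step gen_sq hr certS2_complete blockS2 (d := 0) (k := 1) (by decide +kernel)
    (by norm_num) h1
  have h3 := block_step gen_sq hr certS3_complete blockS3 (d := 0) (k := 2) (by decide +kernel)
    (by norm_num) h2
  have h4 := block_step gen_sq hr certS4_complete blockS4 (d := 0) (k := 3) (by decide +kernel)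
    (by norm_num) h3
  have h5 := block_step gen_sq hr certS5_complete blockS5 (d := 0) (k := 4) (by decide +kernel)
    (by norm_num) h4
  have h6 := block_step gen_sq hr certS6_complete blockS6 (d := 0) (k := 5) (by decide +kernel)
    (by norm_num) h5
  have hC := block_step gen_sq hr certC_complete blockC (d := 0) (k := 6) (by decide +kernel)
    (by norm_num) h6
  have hB := block_step gen_sq hr certB_complete blockB (d := 0) (k := 7) (by decide +kernel)
    (by norm_num) hC
  have hQ := block_step gen_sq hr certQ_complete blockQ (d := 1) (k := 8) (by decide +kernel)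
    (by norm_num) hB
  rw [genSub_blockGen_zero] at hQ
  rw [subA_eq]
  exact hQ

theorem finite_and_card : Finite Fi23 ∧ Nat.card Fi23 ≤ 4089470473293004800 := by
  haveI := subA_card.1
  have h := finite_card_le certA_complete modelA _ subA_card.2
  rw [setupA.gen_top] at h
  exact ⟨haveI := h.1; Finite.of_equiv _ Subgroup.topEquiv.toEquiv,
    by rw [← Nat.card_congr Subgroup.topEquiv.toEquiv]; exact h.2⟩

instance : Finite Fi23 := finite_and_card.1

theorem chain_ok : chainOK certA levels = true :=
  chainOK_cons level0_ok (chainOK_cons level1_ok levels2_ok)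

theorem chain_size : chainSize certA levels = 4089470473293004800 := by
  have h : chainSize certA levels = 31671 * (28160 * (3159 * (288 * (35 * (12 * (3 * (2 * (2 * 1)))))))) :=
    chainSize_cons level0_size (chainSize_cons level1_size (chainSize_cons level2_size
      (chainSize_cons level3_size (chainSize_cons level4_size (chainSize_cons level5_size
        (chainSize_cons level6_size (chainSize_cons level7_size (chainSize_cons level8_size rfl))))))))
  rw [h]

theorem card_faithful : Nat.card Fi23 = 4089470473293004800 ∧ Function.Injective rho :=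
  setupA.card_eq finite_and_card.2 chain_ok chain_size

theorem power_fix :
    (levels.all fun l => wordFix certA
      (powWord [7, 8, 4, 5, 7, 8, 5, 5, 1, 4, 0, 3, 9, 8, 4, 6, 2] (17 ^ 1)) l.base) = true := by
  decide +kernel

theorem isFi23 : Cfsg.IsFi23 Fi23 :=
  ⟨setupA.isSimpleGroup card_faithful.2 (by rw [card_faithful.1]; norm_num) suborbits
    (p := 17) (a := 1) (by norm_num) (by decide +kernel) (by rw [card_faithful.1]; norm_num)
    (setupA.pow_eq_one_of_bases chain_ok (by rw [chain_size, card_faithful.1]) (by decide +kernel)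
      power_fix)
    certX_complete rfl rfl rfl rfl (by decide +kernel), card_faithful.1⟩

theorem printed_subA :
    ((Subgroup.closure ({Fi23.a, Fi23.b, Fi23.c, Fi23.d, Fi23.e, Fi23.f, Fi23.g, Fi23.h,
        Fi23.i} : Set (FreeGroup Fi23.Gen))).map
      (PresentedGroup.mk (coxRelators Fi23.edges ∪ {r | r ∈ Fi23.extra}))) = subA := by
  rw [MonoidHom.map_closure, subA]
  congr 1
  ext y
  have hs : certA.subs = [[0], [1], [2], [3], [4], [5], [6], [7], [8]] := rfl
  simp only [Set.mem_ofPred_eq, hs, List.mem_cons, List.not_mem_nil, or_false, exists_eq_or_imp,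
    exists_eq_left, Set.image_insert_eq, Set.image_singleton, Set.mem_insert_iff,
    Set.mem_singleton_iff, prodW_cons, prodW_nil, mul_one]
  simp only [gen, presGen, genOf, letters, List.length_cons, List.length_nil]
  simp [eq_comm, PresentedGroup.of, Fi23.a, Fi23.b, Fi23.c, Fi23.d, Fi23.e, Fi23.f, Fi23.g,
    Fi23.h, Fi23.i]

theorem index_and_orbits :
    let H := (Subgroup.closure ({Fi23.a, Fi23.b, Fi23.c, Fi23.d, Fi23.e, Fi23.f, Fi23.g, Fi23.h,
        Fi23.i} : Set (FreeGroup Fi23.Gen))).map
      (PresentedGroup.mk (coxRelators Fi23.edges ∪ {r | r ∈ Fi23.extra}))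
    H.index = 31671 ∧ ∃ q₁ q₂ : Fi23 ⧸ H,
      (MulAction.orbit H q₁).ncard = 3510 ∧ (MulAction.orbit H q₂).ncard = 28160 := by
  intro H
  have e : H = subA := printed_subA
  rw [e]
  obtain ⟨q₁, -, h₁⟩ := setupA.exists_orbit subMask0_orbit
  obtain ⟨q₂, -, h₂⟩ := setupA.exists_orbit subMask1_orbit
  exact ⟨setupA.index_eq.trans rfl, q₁, q₂, h₁.trans subMask0_size, h₂.trans subMask1_size⟩

end CfsgLib.Fi23Pres
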