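import Cfsg.Agent.Lib.Fi23Pres.OutChecks
import Cfsg.Agent.Lib.Fi23Pres.OutFacts

/-!
The outer automorphism group of the presented Fischer group Fi23 is trivial.
-/

set_option autoImplicit false

namespace CfsgLib.Fi23Pres

open CfsgLib.CosetEnum Cfsg.Spor

theorem hsize : chainSize certA levels = Nat.card Fi23 := chain_size.trans card_faithful.1.symm

theorem repWords : setupA.RepWords :=
  setupA.repWords_of_depth (dep := depthTab) (k := 13) (b := 6) (by decide +kernel) fun j hj => by
    match j, hj with
    | 0, _ => exact depth_ok0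
    | 1, _ => exact depth_ok1
    | 2, _ => exact depth_ok2
    | 3, _ => exact depth_ok3
    | 4, _ => exact depth_ok4
    | 5, _ => exact depth_ok5
    | n + 6, h => omega

theorem hK : certA.K = 10 := rfl

theorem lt_of_blt {w : List ℕ} (h : (w.all fun g => Nat.blt g 10) = true) : ∀ g ∈ w, g < certA.K := by
  simpa only [List.all_eq_true, Nat.blt_eq, hK] using h

theorem z_lt : ∀ g ∈ zWord, g < certA.K :=
  lt_of_blt (List.all_eq_true.mp words_lt zWord (by simp))

theorem v_lt : ∀ g ∈ vWord, g < certA.K :=
  lt_of_blt (List.all_eq_true.mp words_lt vWord (by simp))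

theorem b_lt : ∀ g ∈ bWord, g < certA.K :=
  lt_of_blt (List.all_eq_true.mp words_lt bWord (by simp))

theorem c_lt : ∀ g ∈ cWord, g < certA.K :=
  lt_of_blt (List.all_eq_true.mp words_lt cWord (by simp))

theorem app_lt {u w : List ℕ} (hu : ∀ g ∈ u, g < certA.K) (hw : ∀ g ∈ w, g < certA.K) :
    ∀ g ∈ u ++ w, g < certA.K := fun g hg => (List.mem_append.mp hg).elim (hu g) (hw g)

theorem nil_lt : ∀ g ∈ ([] : List ℕ), g < certA.K := by simp

theorem eq_words {u w : List ℕ} (hu : ∀ g ∈ u, g < certA.K) (hw : ∀ g ∈ w, g < certA.K)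
    (h : sameBases certA levels u w = true) : prodW gen u = prodW gen w :=
  setupA.eq_of_bases chain_ok hsize hu hw h

theorem ne_words {u w : List ℕ} (hu : ∀ g ∈ u, g < certA.K) (hw : ∀ g ∈ w, g < certA.K)
    (h : sameBases certA levels u w = false) : prodW gen u ≠ prodW gen w := by
  simp only [sameBases, List.all_eq_false, Bool.not_eq_true] at h
  obtain ⟨l, hl, hne⟩ := h
  have hb : (levels.all fun l => Nat.blt l.base certA.N) = true := by decide +kernel
  simp only [List.all_eq_true, Nat.blt_eq] at hb
  exact setupA.ne_of_run hu hw (hb l hl) hne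

/-- the element centralized by the subgroup -/
noncomputable def central : Fi23 := prodW gen zWord

theorem comm_central : ∀ x ∈ subA, x * central = central * x := by
  intro x hx
  induction hx using Subgroup.closure_induction with
  | mem y hy =>
    obtain ⟨w, hw, rfl⟩ := hy
    have h := eq_words (app_lt z_lt (setupA.sub_lt hw)) (app_lt (setupA.sub_lt hw) z_lt)
      (List.all_eq_true.mp z_comm w hw)
    rw [prodW_append, prodW_append] at h
    exact h.symm
  | one => simp
  | mul x y _ _ hx hy => rw [mul_assoc, hy, ← mul_assoc, hx, mul_assoc]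
  | inv x _ hx => exact Commute.inv_left hx

theorem rep_lt (x : Fin certA.N) : ∀ g ∈ certA.repWord x, g < certA.K :=
  (setupA.coreRep_eq repWords x).1

theorem zAt_lt (x : Fin certA.N) : ∀ g ∈ zAt x, g < certA.K := by
  refine app_lt (fun g hg => ?_) (app_lt z_lt (rep_lt x))
  simp only [Cert.revInv, List.mem_reverse, List.mem_map] at hg
  obtain ⟨g', hg', rfl⟩ := hg
  exact setupA.complete.inv_lt (rep_lt x g' hg')

theorem conj_eq (x : Fin certA.N) : conjAt certA gen central x = prodW gen (zAt x) := by
  rw [conjAt, (setupA.coreRep_eq repWords x).2, zAt, prodW_append, prodW_append,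
    setupA.model.revInv_eq, central, mul_assoc]

theorem graph : setupA.ConjGraph central commMask := by
  refine setupA.conjGraph_rankThree comm_central subMask0_orbit subMask1_orbit suborbits.cover
    ?_ ?_ ?_
  · rw [show (53 : ℕ) = ((⟨53, by decide +kernel⟩ : Fin certA.N) : ℕ) from rfl, conj_eq]
    have h := eq_words (app_lt z_lt (zAt_lt ⟨53, by decide +kernel⟩))
      (app_lt (zAt_lt ⟨53, by decide +kernel⟩) z_lt) comm_rep
    rw [prodW_append, prodW_append] at h
    exact h
  · rw [show (53 : ℕ) = ((⟨53, by decide +kernel⟩ : Fin certA.N) : ℕ) from rfl, conj_eq]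
    exact ne_words (zAt_lt _) z_lt rep_ne
  · rw [show (1 : ℕ) = ((⟨1, by decide +kernel⟩ : Fin certA.N) : ℕ) from rfl, conj_eq]
    intro hc
    refine ne_words (app_lt z_lt (zAt_lt ⟨1, by decide +kernel⟩))
      (app_lt (zAt_lt ⟨1, by decide +kernel⟩) z_lt) noncomm_rep ?_
    rw [prodW_append, prodW_append]
    exact hc.eq

/-- the second fixed coset -/
noncomputable def fix₂ : Fin certA.N := ⟨27467, by decide +kernel⟩

/-- the third fixed coset -/
noncomputable def fix₃ : Fin certA.N := ⟨28462, by decide +kernel⟩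

theorem square_one {u : List ℕ} (hu : ∀ g ∈ u, g < certA.K)
    (h : sameBases certA levels (u ++ u) [] = true) : prodW gen u * prodW gen u = 1 := by
  rw [← prodW_append, eq_words (app_lt hu hu) nil_lt h, prodW_nil]

theorem commute_v {u : List ℕ} (hu : ∀ g ∈ u, g < certA.K)
    (h : sameBases certA levels (u ++ vWord) (vWord ++ u) = true) :
    Commute (prodW gen u) (prodW gen vWord) := by
  have h' := eq_words (app_lt hu v_lt) (app_lt v_lt hu) h
  rwa [prodW_append, prodW_append] at h'

theorem v_order : orderOf (prodW gen vWord) = 13 := by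
  haveI : Fact (Nat.Prime 13) := ⟨by norm_num⟩
  refine orderOf_eq_prime (setupA.pow_eq_one_of_bases chain_ok hsize
    (List.all_eq_true.mp words_lt vWord (by simp)) v_power) ?_
  simpa using ne_words v_lt nil_lt v_moves

theorem central_facts : central * central = 1 ∧ central ≠ 1 :=
  ⟨square_one z_lt z_square, by simpa [central] using ne_words z_lt nil_lt z_moves⟩

theorem v_cent (g : Fi23) (hg : Commute g (prodW gen vWord)) (h2 : g * g = 1) (h1 : g ≠ 1) :
    IsConj central g := by
  have himg := three_images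
  simp only [Bool.and_eq_true] at himg
  obtain ⟨⟨⟨i0, i23⟩, ib⟩, ic⟩ := himg
  have im : ∀ {u : List ℕ} (_ : ∀ g ∈ u, g < certA.K) (x y : Fin certA.N),
      Nat.beq (certA.run x (certA.revInv u)) y = true → rho (prodW gen u) x = y :=
    fun hu x y h => Fin.ext ((setupA.rho_prodW hu x).trans (Nat.eq_of_beq_eq_true h))
  have hfix := v_fixed
  unfold Cert.threeFixed at hfix
  simp only [band_eq_true] at hfix
  obtain ⟨⟨hv0, hv2, hv3⟩, -⟩ := hfix
  refine setupA.involution_conj v_lt (t₂ := fix₂) (t₃ := fix₃) v_fixed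
    ⟨Fin.ne_of_val_ne (by show (0 : ℕ) ≠ 27467; norm_num),
      Fin.ne_of_val_ne (by show (0 : ℕ) ≠ 28462; norm_num),
      Fin.ne_of_val_ne (by show (27467 : ℕ) ≠ 28462; norm_num)⟩
    comm_central (commute_v z_lt zv_comm) central_facts.1 (im z_lt setupA.base setupA.base i0)
    (im z_lt fix₂ fix₃ i23) (commute_v b_lt bv_comm) (square_one b_lt b_square)
    (im b_lt setupA.base fix₃ ib)
    ⟨prodW gen cWord, commute_v c_lt cv_comm, square_one c_lt c_square,
      im c_lt setupA.base fix₂ ic⟩
    (by rw [v_order]; decide) (fun k hk k0 k2 k3 => ?_) hg h2 h1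
  exact setupA.fix_three_cases repWords graph.inv v_lt (t₂ := fix₂) (t₃ := fix₃) v_first
    chain_ok hsize v_search
    ⟨im v_lt setupA.base setupA.base hv0, im v_lt fix₂ fix₂ hv2, im v_lt fix₃ fix₃ hv3⟩ hk k0 k2 k3

theorem inner_fix (φ : MulAut Fi23) : ∃ g : Fi23, g * φ central * g⁻¹ = central := by
  haveI : Fact (Nat.Prime 13) := ⟨by norm_num⟩
  exact exists_inner_fix_conj v_order (by rw [card_faithful.1]; norm_num)
    (commute_v z_lt zv_comm) central_facts.1 central_facts.2 v_cent φ

/-- the central element followed by the generators -/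
noncomputable def family (k : ℕ) : Fi23 := prodW gen (famWord k)

theorem family_top : Subgroup.closure {y | ∃ k < 11, family k = y} = ⊤ := by
  rw [eq_top_iff, ← setupA.gen_top]
  refine Subgroup.closure_mono ?_
  rintro y ⟨g, hg, rfl⟩
  rw [hK] at hg
  refine ⟨g + 1, by omega, ?_⟩
  have e : famWord (g + 1) = [g] := by
    unfold famWord
    rw [show Nat.beq (g + 1) 0 = false from rfl, pick_false]
    simp
  rw [family, e]
  simp

theorem std_spec (k : ℕ) (hk : k < 11) : stdTuple.getD k 0 < certA.N ∧
    conjAt certA gen central (stdTuple.getD k 0) = family k := by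
  have h := std_words
  simp only [List.all_eq_true, List.mem_range, Bool.and_eq_true, ltB_iff] at h
  obtain ⟨h1, h2⟩ := h k hk
  have hN : certA.N = 31671 := rfl
  refine ⟨by omega, ?_⟩
  have hx : stdTuple.getD k 0 < certA.N := by omega
  rw [show stdTuple.getD k 0 = ((⟨_, hx⟩ : Fin certA.N) : ℕ) from rfl, conj_eq, family]
  refine eq_words (zAt_lt _) ?_ h2
  unfold famWord
  cases k with
  | zero => exact z_lt
  | succ k =>
    intro g hg
    rw [show Nat.beq (k + 1) 0 = false from rfl, pick_false, List.mem_singleton] at hg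
    rw [hg, hK]
    simp only [Nat.sub_eq, Nat.add_sub_cancel]
    omega

theorem tup_ok : certA.tupOK commMask stdTuple tupNodes tupLeaves = true := by
  unfold Cert.tupOK
  simp only [Bool.and_eq_true]
  refine ⟨⟨⟨?_, by decide +kernel⟩, by decide +kernel⟩, by decide +kernel⟩
  unfold tupNodes
  simp only [List.all_cons, List.all_nil, Bool.and_eq_true, and_true]
  exact ⟨tupNode0_ok, tupNode1_ok, tupNode2_ok, tupNode3_ok, tupNode4_ok, tupNode5_ok,
    tupNode6_ok, tupNode7_ok, tupNode8_ok, tupNode9_ok, tupNode10_ok, tupNode11_ok, tupNode12_ok,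
    tupNode13_ok, tupNode14_ok, tupNode15_ok, tupNode16_ok, tupNode17_ok, tupNode18_ok,
    tupNode19_ok, tupNode20_ok, tupNode21_ok, tupNode22_ok, tupNode23_ok⟩

theorem out_card : Nat.card (Cfsg.Out Fi23) = 1 := by
  have hle : Nat.card (Cfsg.Out Fi23) ≤ 1 :=
    setupA.card_out_le_family repWords graph inner_fix family_top (std := stdTuple) rfl
      (by norm_num) std_spec (by decide +kernel) tup_ok
  haveI : Finite (MulAut Fi23) := Finite.of_injective (fun φ : MulAut Fi23 => φ.toEquiv)
    fun φ ψ h => MulEquiv.toEquiv_injective h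
  have hpos : 0 < Nat.card (Cfsg.Out Fi23) := Nat.card_pos
  omega

end CfsgLib.Fi23Pres
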