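import Cfsg.Agent.Lib.Fi23Pres.OutBase

/-!
Kernel check of one node of the tuple search.
-/

set_option autoImplicit false
set_option linter.style.longLine false
set_option Elab.async false

namespace CfsgLib.Fi23Pres

open CfsgLib.CosetEnum

theorem head11_ok : certA.tupHead ((tupNodes.map TupNode.ps) ++ tupLeaves) tupNode11 = true := by decide +kernel

theorem cover11_ok_b0 : Cert.blockPts certA.N (certA.tupCover commMask stdTuple tupNode11) 11 0 = true := by decide +kernel

theorem cover11_ok_b1 : Cert.blockPts certA.N (certA.tupCover commMask stdTuple tupNode11) 11 1 = true := by decide +kernel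

theorem cover11_ok_b2 : Cert.blockPts certA.N (certA.tupCover commMask stdTuple tupNode11) 11 2 = true := by decide +kernel

theorem cover11_ok_b3 : Cert.blockPts certA.N (certA.tupCover commMask stdTuple tupNode11) 11 3 = true := by decide +kernel

theorem cover11_ok_b4 : Cert.blockPts certA.N (certA.tupCover commMask stdTuple tupNode11) 11 4 = true := by decide +kernel

theorem cover11_ok_b5 : Cert.blockPts certA.N (certA.tupCover commMask stdTuple tupNode11) 11 5 = true := by decide +kernel

theorem cover11_ok_b6 : Cert.blockPts certA.N (certA.tupCover commMask stdTuple tupNode11) 11 6 = true := by decide +kernel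

theorem cover11_ok_b7 : Cert.blockPts certA.N (certA.tupCover commMask stdTuple tupNode11) 11 7 = true := by decide +kernel

theorem cover11_ok_b8 : Cert.blockPts certA.N (certA.tupCover commMask stdTuple tupNode11) 11 8 = true := by decide +kernel

theorem cover11_ok_b9 : Cert.blockPts certA.N (certA.tupCover commMask stdTuple tupNode11) 11 9 = true := by decide +kernel

theorem cover11_ok_b10 : Cert.blockPts certA.N (certA.tupCover commMask stdTuple tupNode11) 11 10 = true := by decide +kernel

theorem cover11_ok_b11 : Cert.blockPts certA.N (certA.tupCover commMask stdTuple tupNode11) 11 11 = true := by decide +kernel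

theorem cover11_ok_b12 : Cert.blockPts certA.N (certA.tupCover commMask stdTuple tupNode11) 11 12 = true := by decide +kernel

theorem cover11_ok_b13 : Cert.blockPts certA.N (certA.tupCover commMask stdTuple tupNode11) 11 13 = true := by decide +kernel

theorem cover11_ok_b14 : Cert.blockPts certA.N (certA.tupCover commMask stdTuple tupNode11) 11 14 = true := by decide +kernel

theorem cover11_ok_b15 : Cert.blockPts certA.N (certA.tupCover commMask stdTuple tupNode11) 11 15 = true := by decide +kernel

theorem cover11_ok : Cert.allPts certA.N (certA.tupCover commMask stdTuple tupNode11) = true :=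
  Cert.allPts_of_blockPts (k := 11) (b := 16) (by decide +kernel) (by decide +kernel) fun j hj => by
    match j, hj with
    | 0, _ => exact cover11_ok_b0
    | 1, _ => exact cover11_ok_b1
    | 2, _ => exact cover11_ok_b2
    | 3, _ => exact cover11_ok_b3
    | 4, _ => exact cover11_ok_b4
    | 5, _ => exact cover11_ok_b5
    | 6, _ => exact cover11_ok_b6
    | 7, _ => exact cover11_ok_b7
    | 8, _ => exact cover11_ok_b8
    | 9, _ => exact cover11_ok_b9
    | 10, _ => exact cover11_ok_b10
    | 11, _ => exact cover11_ok_b11
    | 12, _ => exact cover11_ok_b12
    | 13, _ => exact cover11_ok_b13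
    | 14, _ => exact cover11_ok_b14
    | 15, _ => exact cover11_ok_b15
    | n + 16, h => omega

theorem tupNode11_ok :
    certA.tupNodeOK commMask stdTuple ((tupNodes.map TupNode.ps) ++ tupLeaves) tupNode11 = true :=
  certA.tupNodeOK_of head11_ok cover11_ok

end CfsgLib.Fi23Pres
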