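import Cfsg.Agent.Lib.Fi23Pres.OutBase

/-!
Kernel check of one node of the tuple search.
-/

set_option autoImplicit false
set_option linter.style.longLine false
set_option Elab.async false

namespace CfsgLib.Fi23Pres

open CfsgLib.CosetEnum

theorem head20_ok : certA.tupHead ((tupNodes.map TupNode.ps) ++ tupLeaves) tupNode20 = true := by decide +kernel

theorem cover20_ok_b0 : Cert.blockPts certA.N (certA.tupCover commMask stdTuple tupNode20) 13 0 = true := by decide +kernel

theorem cover20_ok_b1 : Cert.blockPts certA.N (certA.tupCover commMask stdTuple tupNode20) 13 1 = true := by decide +kernel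

theorem cover20_ok_b2 : Cert.blockPts certA.N (certA.tupCover commMask stdTuple tupNode20) 13 2 = true := by decide +kernel

theorem cover20_ok_b3 : Cert.blockPts certA.N (certA.tupCover commMask stdTuple tupNode20) 13 3 = true := by decide +kernel

theorem cover20_ok : Cert.allPts certA.N (certA.tupCover commMask stdTuple tupNode20) = true :=
  Cert.allPts_of_blockPts (k := 13) (b := 4) (by decide +kernel) (by decide +kernel) fun j hj => by
    match j, hj with
    | 0, _ => exact cover20_ok_b0
    | 1, _ => exact cover20_ok_b1
    | 2, _ => exact cover20_ok_b2
    | 3, _ => exact cover20_ok_b3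
    | n + 4, h => omega

theorem tupNode20_ok :
    certA.tupNodeOK commMask stdTuple ((tupNodes.map TupNode.ps) ++ tupLeaves) tupNode20 = true :=
  certA.tupNodeOK_of head20_ok cover20_ok

end CfsgLib.Fi23Pres
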