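import Cfsg.Agent.Lib.Fi23Pres.OutBase

/-!
Kernel checks for the automorphisms of the presented Fischer group Fi23.
-/

set_option autoImplicit false
set_option Elab.async false

namespace CfsgLib.Fi23Pres

open CfsgLib.CosetEnum

theorem v_first : certA.firstFixOK commMask vWord 7 13 175
    [(0, 0), (27467, 27467), (28462, 28462)] = true := by decide +kernel

end CfsgLib.Fi23Pres
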