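import Cfsg.Agent.Lib.Fi23Pres.OutBase

/-!
Kernel checks for the automorphisms of the presented Fischer group Fi23.
-/

set_option autoImplicit false
set_option Elab.async false

namespace CfsgLib.Fi23Pres

open CfsgLib.CosetEnum

theorem v_fixed_head : band (Nat.beq (certA.run 0 (certA.revInv vWord)) 0)
    (band (Nat.beq (certA.run 27467 (certA.revInv vWord)) 27467)
      (Nat.beq (certA.run 28462 (certA.revInv vWord)) 28462)) = true := by decide +kernel

theorem v_fixed_0 : Cert.blockPts certA.N (fun x => strict x fun x =>
      pick (Nat.beq x 0) true (pick (Nat.beq x 27467) true (pick (Nat.beq x 28462) true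
        (!(Nat.beq (certA.run x (certA.revInv vWord)) x))))) 13 0 = true := by decide +kernel

theorem v_fixed_1 : Cert.blockPts certA.N (fun x => strict x fun x =>
      pick (Nat.beq x 0) true (pick (Nat.beq x 27467) true (pick (Nat.beq x 28462) true
        (!(Nat.beq (certA.run x (certA.revInv vWord)) x))))) 13 1 = true := by decide +kernel

theorem v_fixed_2 : Cert.blockPts certA.N (fun x => strict x fun x =>
      pick (Nat.beq x 0) true (pick (Nat.beq x 27467) true (pick (Nat.beq x 28462) true
        (!(Nat.beq (certA.run x (certA.revInv vWord)) x))))) 13 2 = true := by decide +kernel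

theorem v_fixed_3 : Cert.blockPts certA.N (fun x => strict x fun x =>
      pick (Nat.beq x 0) true (pick (Nat.beq x 27467) true (pick (Nat.beq x 28462) true
        (!(Nat.beq (certA.run x (certA.revInv vWord)) x))))) 13 3 = true := by decide +kernel

theorem v_fixed : certA.threeFixed vWord 27467 28462 = true :=
  band_eq_true.2 ⟨v_fixed_head,
    Cert.allPts_of_blockPts (f := (fun x => strict x fun x =>
      pick (Nat.beq x 0) true (pick (Nat.beq x 27467) true (pick (Nat.beq x 28462) true
        (!(Nat.beq (certA.run x (certA.revInv vWord)) x)))))) (k := 13) (b := 4) (by decide +kernel) (by decide +kernel) fun j hj =>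
      match j, hj with
      | 0, _ => v_fixed_0
      | 1, _ => v_fixed_1
      | 2, _ => v_fixed_2
      | 3, _ => v_fixed_3
      | n + 4, h => absurd h (by omega)⟩

end CfsgLib.Fi23Pres
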