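import Cfsg.Agent.Lib.Fi23Pres.OutBase

/-!
Kernel check of one forced step of the centralizer search.
-/

set_option autoImplicit false
set_option linter.style.longLine false
set_option Elab.async false

namespace CfsgLib.Fi23Pres

open CfsgLib.CosetEnum

/-- pairs used at step 3 -/
def forcedPairs3 : List (ℕ × ℕ) := [(0, 0), (900, 900), (1238, 1238), (1263, 1263), (1743, 1743), (1734, 1734), (273, 273)]

theorem forced3_ok_b0 : Cert.blockPts certA.N (certA.forcedAt commMask forcedPairs3 8003) 15 0 = true := by decide +kernel

theorem forced3_ok : Cert.allPts certA.N (certA.forcedAt commMask forcedPairs3 8003) = true :=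
  Cert.allPts_of_blockPts (k := 15) (b := 1) (by decide +kernel) (by decide +kernel) fun j hj => by
    match j, hj with
    | 0, _ => exact forced3_ok_b0
    | n + 1, h => omega

end CfsgLib.Fi23Pres
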