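import Cfsg.Agent.Lib.Fi23Pres.OutBase

/-!
Kernel check of one forced step of the centralizer search.
-/

set_option autoImplicit false
set_option linter.style.longLine false
set_option Elab.async false

namespace CfsgLib.Fi23Pres

open CfsgLib.CosetEnum

/-- pairs used at step 5 -/
def forcedPairs5 : List (ℕ × ℕ) := [(0, 0), (439, 439), (623, 623), (1261, 1261), (452, 452), (3172, 3172), (572, 572)]

theorem forced5_ok_b0 : Cert.blockPts certA.N (certA.forcedAt commMask forcedPairs5 8006) 15 0 = true := by decide +kernel

theorem forced5_ok : Cert.allPts certA.N (certA.forcedAt commMask forcedPairs5 8006) = true :=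
  Cert.allPts_of_blockPts (k := 15) (b := 1) (by decide +kernel) (by decide +kernel) fun j hj => by
    match j, hj with
    | 0, _ => exact forced5_ok_b0
    | n + 1, h => omega

end CfsgLib.Fi23Pres
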