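import Cfsg.Agent.Lib.Fi23Pres.OutBase

/-!
Kernel check of one forced step of the centralizer search.
-/

set_option autoImplicit false
set_option linter.style.longLine false
set_option Elab.async false

namespace CfsgLib.Fi23Pres

open CfsgLib.CosetEnum

/-- pairs used at step 8 -/
def forcedPairs8 : List (ℕ × ℕ) := [(0, 0), (894, 894), (1727, 1727), (2356, 2356), (891, 891), (11339, 11339)]

theorem forced8_ok_b0 : Cert.blockPts certA.N (certA.forcedAt commMask forcedPairs8 7999) 12 0 = true := by decide +kernel

theorem forced8_ok_b1 : Cert.blockPts certA.N (certA.forcedAt commMask forcedPairs8 7999) 12 1 = true := by decide +kernel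

theorem forced8_ok_b2 : Cert.blockPts certA.N (certA.forcedAt commMask forcedPairs8 7999) 12 2 = true := by decide +kernel

theorem forced8_ok_b3 : Cert.blockPts certA.N (certA.forcedAt commMask forcedPairs8 7999) 12 3 = true := by decide +kernel

theorem forced8_ok_b4 : Cert.blockPts certA.N (certA.forcedAt commMask forcedPairs8 7999) 12 4 = true := by decide +kernel

theorem forced8_ok_b5 : Cert.blockPts certA.N (certA.forcedAt commMask forcedPairs8 7999) 12 5 = true := by decide +kernel

theorem forced8_ok_b6 : Cert.blockPts certA.N (certA.forcedAt commMask forcedPairs8 7999) 12 6 = true := by decide +kernel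

theorem forced8_ok_b7 : Cert.blockPts certA.N (certA.forcedAt commMask forcedPairs8 7999) 12 7 = true := by decide +kernel

theorem forced8_ok : Cert.allPts certA.N (certA.forcedAt commMask forcedPairs8 7999) = true :=
  Cert.allPts_of_blockPts (k := 12) (b := 8) (by decide +kernel) (by decide +kernel) fun j hj => by
    match j, hj with
    | 0, _ => exact forced8_ok_b0
    | 1, _ => exact forced8_ok_b1
    | 2, _ => exact forced8_ok_b2
    | 3, _ => exact forced8_ok_b3
    | 4, _ => exact forced8_ok_b4
    | 5, _ => exact forced8_ok_b5
    | 6, _ => exact forced8_ok_b6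
    | 7, _ => exact forced8_ok_b7
    | n + 8, h => omega

end CfsgLib.Fi23Pres
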