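import Cfsg.Agent.Lib.Fi23Pres.OutForced0
import Cfsg.Agent.Lib.Fi23Pres.OutForced1
import Cfsg.Agent.Lib.Fi23Pres.OutForced2
import Cfsg.Agent.Lib.Fi23Pres.OutForced3
import Cfsg.Agent.Lib.Fi23Pres.OutForced4
import Cfsg.Agent.Lib.Fi23Pres.OutForced5
import Cfsg.Agent.Lib.Fi23Pres.OutForced6
import Cfsg.Agent.Lib.Fi23Pres.OutForced7
import Cfsg.Agent.Lib.Fi23Pres.OutForced8

/-!
The centralizer search.
-/

set_option autoImplicit false
set_option linter.style.longLine false

namespace CfsgLib.Fi23Pres

open CfsgLib.CosetEnum

theorem v_search :
    certA.searchOK commMask vWord 7 13 (levels.map Level.base) [[]] centSeq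
      (certA.extend vWord 13 [(0, 0), (27467, 27467), (28462, 28462)] 175 175) = true :=
  (certA.searchOK_of_forced (d' := forcedPairs0) (by decide +kernel) (by decide +kernel)
      (by decide +kernel) forced0_ok (certA.searchOK_of_forced (d' := forcedPairs1) (by decide +kernel) (by decide +kernel)
      (by decide +kernel) forced1_ok (certA.searchOK_of_forced (d' := forcedPairs2) (by decide +kernel) (by decide +kernel)
      (by decide +kernel) forced2_ok (certA.searchOK_of_forced (d' := forcedPairs3) (by decide +kernel) (by decide +kernel)
      (by decide +kernel) forced3_ok (certA.searchOK_of_forced (d' := forcedPairs4) (by decide +kernel) (by decide +kernel)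
      (by decide +kernel) forced4_ok (certA.searchOK_of_forced (d' := forcedPairs5) (by decide +kernel) (by decide +kernel)
      (by decide +kernel) forced5_ok (certA.searchOK_of_forced (d' := forcedPairs6) (by decide +kernel) (by decide +kernel)
      (by decide +kernel) forced6_ok (certA.searchOK_of_forced (d' := forcedPairs7) (by decide +kernel) (by decide +kernel)
      (by decide +kernel) forced7_ok (certA.searchOK_of_forced (d' := forcedPairs8) (by decide +kernel) (by decide +kernel)
      (by decide +kernel) forced8_ok (by decide +kernel))))))))))

end CfsgLib.Fi23Pres
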