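import Cfsg.Agent.Lib.Fi23Pres.OutRep
import Cfsg.Agent.Lib.Fi23Pres.OutFixed
import Cfsg.Agent.Lib.Fi23Pres.OutFirst
import Cfsg.Agent.Lib.Fi23Pres.OutSearch
import Cfsg.Agent.Lib.Fi23Pres.CheckTup0
import Cfsg.Agent.Lib.Fi23Pres.CheckTup1
import Cfsg.Agent.Lib.Fi23Pres.CheckTup2
import Cfsg.Agent.Lib.Fi23Pres.CheckTup3
import Cfsg.Agent.Lib.Fi23Pres.CheckTup4
import Cfsg.Agent.Lib.Fi23Pres.CheckTup5
import Cfsg.Agent.Lib.Fi23Pres.CheckTup6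
import Cfsg.Agent.Lib.Fi23Pres.CheckTup7
import Cfsg.Agent.Lib.Fi23Pres.CheckTup8
import Cfsg.Agent.Lib.Fi23Pres.CheckTup9
import Cfsg.Agent.Lib.Fi23Pres.CheckTup10
import Cfsg.Agent.Lib.Fi23Pres.CheckTup11
import Cfsg.Agent.Lib.Fi23Pres.CheckTup12
import Cfsg.Agent.Lib.Fi23Pres.CheckTup13
import Cfsg.Agent.Lib.Fi23Pres.CheckTup14
import Cfsg.Agent.Lib.Fi23Pres.CheckTup15
import Cfsg.Agent.Lib.Fi23Pres.CheckTup16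
import Cfsg.Agent.Lib.Fi23Pres.CheckTup17
import Cfsg.Agent.Lib.Fi23Pres.CheckTup18
import Cfsg.Agent.Lib.Fi23Pres.CheckTup19
import Cfsg.Agent.Lib.Fi23Pres.CheckTup20
import Cfsg.Agent.Lib.Fi23Pres.CheckTup21
import Cfsg.Agent.Lib.Fi23Pres.CheckTup22
import Cfsg.Agent.Lib.Fi23Pres.CheckTup23
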