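import Cfsg.Agent.Lib.Fi23Pres.OutBase

/-!
Kernel check of the depths of the nodes.
-/

set_option autoImplicit false
set_option linter.style.longLine false
set_option Elab.async false

namespace CfsgLib.Fi23Pres

open CfsgLib.CosetEnum

theorem depth_ok0 : allUp (certA.depthOK depthTab) 13 (0 * 2 ^ 13) = true := by decide +kernel

theorem depth_ok1 : allUp (certA.depthOK depthTab) 13 (1 * 2 ^ 13) = true := by decide +kernel

theorem depth_ok2 : allUp (certA.depthOK depthTab) 13 (2 * 2 ^ 13) = true := by decide +kernel

theorem depth_ok3 : allUp (certA.depthOK depthTab) 13 (3 * 2 ^ 13) = true := by decide +kernel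

theorem depth_ok4 : allUp (certA.depthOK depthTab) 13 (4 * 2 ^ 13) = true := by decide +kernel

theorem depth_ok5 : allUp (certA.depthOK depthTab) 13 (5 * 2 ^ 13) = true := by decide +kernel

end CfsgLib.Fi23Pres
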